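import Mathlib

/-!
# Direct powers of `PSL_n(2)` : common definitions (helper370)

* `Ind S T` : some element of `S` has order divisible by all members of the finite set `T`;
* `Exc S` : among `20 c + 2` primes greater than 31 dividing `|S|` some `c + 1` divide the order of one element;
* `Bnd n S` : every odd prime divisor `r` of `|S|` has `ord_r(2) ≤ n`;
* `nu q r` : the order of `-q` modulo `r`.
-/

set_option autoImplicit false

namespace Cfsg.Agent.H370.DP

/-- some element of `S` has order divisible by all members of `T` -/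
def Ind (S : Type*) [Group S] (T : Finset ℕ) : Prop := ∃ g : S, ∀ r ∈ T, r ∣ orderOf g

/-- among `20 c + 2` primes greater than 31 dividing `|S|` some `c + 1` divide the order of one element -/
def Exc (S : Type*) [Group S] : Prop := ∀ (c : ℕ) (T : Finset ℕ), 1 ≤ c → (∀ r ∈ T, r.Prime ∧ 31 < r ∧ r ∣ Nat.card S) →
  20 * c + 2 ≤ T.card → ∃ T' ⊆ T, T'.card = c + 1 ∧ ∃ g : S, ∀ r ∈ T', r ∣ orderOf g

/-- every odd prime divisor `r` of `|S|` has `ord_r(2) ≤ n` -/
def Bnd (n : ℕ) (S : Type*) [Group S] : Prop := ∀ r : ℕ, r.Prime → r ≠ 2 → r ∣ Nat.card S → orderOf (2 : ZMod r) ≤ n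

/-- the order of `-q` modulo `r` -/
noncomputable def nu (q r : ℕ) : ℕ := orderOf (-(q : ZMod r))

theorem Ind.mono {S : Type*} [Group S] {T T' : Finset ℕ} (h : Ind S T) (hT : T' ⊆ T) : Ind S T' := by
  obtain ⟨g, hg⟩ := h
  exact ⟨g, fun r hr => hg r (hT hr)⟩

theorem Ind.congr {S S' : Type*} [Group S] [Group S'] (e : S ≃* S') {T : Finset ℕ} (h : Ind S T) : Ind S' T := by
  obtain ⟨g, hg⟩ := h
  exact ⟨e g, fun r hr => by rw [MulEquiv.orderOf_eq]; exact hg r hr⟩

theorem Ind.of_injective {S S' : Type*} [Group S] [Group S'] (f : S →* S') (hf : Function.Injective f) {T : Finset ℕ}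
    (h : Ind S T) : Ind S' T := by
  obtain ⟨g, hg⟩ := h
  exact ⟨f g, fun r hr => by rw [orderOf_injective f hf]; exact hg r hr⟩

theorem Ind.of_surjective {S S' : Type*} [Group S] [Group S'] (f : S →* S') (hf : Function.Surjective f) {T : Finset ℕ}
    (h : Ind S' T) : Ind S T := by
  obtain ⟨g, hg⟩ := h
  obtain ⟨x, rfl⟩ := hf g
  exact ⟨x, fun r hr => (hg r hr).trans (orderOf_map_dvd f x)⟩

end Cfsg.Agent.H370.DP
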