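import Cfsg.Agent.H370.DP.Def

/-!
# Direct powers of `PSL_n(2)` : more definitions (helper370)

* `Pr k c S E` : at most `c` members of `E` divide the order of one element of `S`, and each `k`-subset of `E` contains
  a `c`-subset dividing the order of one element;
* `Bd N k x` : the numerical bounds for the number `x` of primes;
* `DD X r` : `r` divides the order of a solvable normal subgroup of a quotient of `X`;
* `kerPerm 𝓐` : the intersection of the normalizers of the members of `𝓐`;
* `PL F m` : `PSL_m(F)`.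
-/

set_option autoImplicit false

namespace Cfsg.Agent.H370.DP

/-- at most `c` members of `E` divide the order of one element of `S`, and each `k`-subset of `E` contains
  a `c`-subset dividing the order of one element -/
def Pr (k c : ℕ) (S : Type*) [Group S] (E : Finset ℕ) : Prop :=
  (∀ T ⊆ E, Ind S T → T.card ≤ c) ∧ ∀ T ⊆ E, T.card = k → ∃ A ⊆ T, A.card = c ∧ Ind S A

/-- the numerical bounds -/
def Bd (N k x : ℕ) : Prop := 4 * x ≤ 3 * N + 4 * (k ^ 2 + 3 * k + 8) ∨ 4 * x ≤ 2 * N + 4 * (2 * k ^ 2 + k + 2)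

/-- `r` divides the order of a solvable normal subgroup of a quotient of `X` -/
def DD (X : Type*) [Group X] (r : ℕ) : Prop :=
  ∃ (A : Subgroup X) (_ : A.Normal) (B : Subgroup (X ⧸ A)), B.Normal ∧ Group.IsSolvable B ∧ r ∣ Nat.card B

/-- the intersection of the normalizers of the members of `𝓐` -/
def kerPerm {X : Type*} [Group X] (𝓐 : Set (Subgroup X)) : Subgroup X := ⨅ C ∈ 𝓐, Subgroup.normalizer (C : Set X)

/-- `PSL_m(F)` -/
abbrev PL (F : Type*) [Field F] (m : ℕ) := Matrix.ProjectiveSpecialLinearGroup (Fin m) F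

theorem Pr.mono {k c : ℕ} {S : Type*} [Group S] {E E' : Finset ℕ} (h : Pr k c S E) (hE : E' ⊆ E) : Pr k c S E' :=
  ⟨fun T hT => h.1 T (hT.trans hE), fun T hT => h.2 T (hT.trans hE)⟩

theorem Pr.congr {k c : ℕ} {S S' : Type*} [Group S] [Group S'] (e : S ≃* S') {E : Finset ℕ} (h : Pr k c S E) :
    Pr k c S' E := by
  refine ⟨fun T hT hI => h.1 T hT (hI.congr e.symm), fun T hT hk => ?_⟩
  obtain ⟨A, h1, h2, h3⟩ := h.2 T hT hk
  exact ⟨A, h1, h2, h3.congr e⟩

end Cfsg.Agent.H370.DP
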