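import Cfsg.Agent.H370.DP.Def2

/-!
# Transfer of `Ind` and `Pr`, direct products (helper370)
-/

set_option autoImplicit false

namespace Cfsg.Agent.H370.DP

open Subgroup

variable {X Y : Type*} [Group X] [Group Y]

theorem Ind.prime_dvd_card [Finite X] {T : Finset ℕ} (h : Ind X T) {r : ℕ} (hr : r ∈ T) : r ∣ Nat.card X := by
  obtain ⟨g, hg⟩ := h
  exact (hg r hr).trans (orderOf_dvd_natCard g)

theorem ind_singleton [Finite X] {r : ℕ} (hr : r.Prime) (h : r ∣ Nat.card X) : Ind X {r} := by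
  have := Fact.mk hr
  obtain ⟨g, hg⟩ := exists_prime_orderOf_dvd_card' r h
  refine ⟨g, fun s hs => ?_⟩
  rw [Finset.mem_singleton.1 hs, hg]

/-- passing to a quotient by a kernel of order prime to the members of `T` -/
theorem Ind.map_of_ker [Finite X] (f : X →* Y) {T : Finset ℕ} (hT : ∀ r ∈ T, r.Prime)
    (hk : ∀ r ∈ T, ¬ r ∣ Nat.card f.ker) (h : Ind X T) : Ind Y T := by
  obtain ⟨g, hg⟩ := h
  refine ⟨f g, fun r hr => ?_⟩
  have h1 : g ^ orderOf (f g) ∈ f.ker := by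
    rw [MonoidHom.mem_ker, map_pow, pow_orderOf_eq_one]
  have h2 : orderOf g ∣ orderOf (f g) * Nat.card f.ker := by
    rw [orderOf_dvd_iff_pow_eq_one, pow_mul]
    have h3 : (⟨g ^ orderOf (f g), h1⟩ : f.ker) ^ Nat.card f.ker = 1 := pow_card_eq_one'
    exact congrArg Subtype.val h3
  rcases (hT r hr).dvd_mul.1 ((hg r hr).trans h2) with h3 | h3
  · exact h3
  · exact absurd h3 (hk r hr)

/-- passing to a normal subgroup of index prime to the members of `T` -/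
theorem Ind.of_index [Finite X] {N : Subgroup X} [N.Normal] {T : Finset ℕ} (hT : ∀ r ∈ T, r.Prime)
    (hk : ∀ r ∈ T, ¬ r ∣ N.index) (h : Ind X T) : Ind N T := by
  obtain ⟨g, hg⟩ := h
  have h1 : g ^ N.index ∈ N := Subgroup.pow_index_mem N g
  refine ⟨⟨g ^ N.index, h1⟩, fun r hr => ?_⟩
  rw [Subgroup.orderOf_mk, orderOf_pow]
  have h2 : r ∣ orderOf g / Nat.gcd (orderOf g) N.index * Nat.gcd (orderOf g) N.index := by
    rw [Nat.div_mul_cancel (Nat.gcd_dvd_left _ _)]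
    exact hg r hr
  rcases (hT r hr).dvd_mul.1 h2 with h3 | h3
  · exact h3
  · exact absurd (h3.trans (Nat.gcd_dvd_right _ _)) (hk r hr)

theorem Pr.of_iff {k κ : ℕ} {E : Finset ℕ} (h : Pr k κ X E) (h1 : ∀ T ⊆ E, Ind X T → Ind Y T)
    (h2 : ∀ T ⊆ E, Ind Y T → Ind X T) : Pr k κ Y E := by
  refine ⟨fun T hT hI => h.1 T hT (h2 T hT hI), fun T hT hk => ?_⟩
  obtain ⟨A, hA, h3, h4⟩ := h.2 T hT hk
  exact ⟨A, hA, h3, h1 A (hA.trans hT) h4⟩

/-- `Pr` passes to quotients by kernels of order prime to `E` -/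
theorem Pr.map [Finite X] {k κ : ℕ} {E : Finset ℕ} (h : Pr k κ X E) (f : X →* Y) (hf : Function.Surjective f)
    (hE : ∀ r ∈ E, r.Prime) (hk : ∀ r ∈ E, ¬ r ∣ Nat.card f.ker) : Pr k κ Y E :=
  h.of_iff (fun T hT hI => hI.map_of_ker f (fun r hr => hE r (hT hr)) (fun r hr => hk r (hT hr)))
    (fun _ _ hI => hI.of_surjective f hf)

theorem Ind.union_of_prod {T₁ T₂ : Finset ℕ} (h1 : Ind X T₁) (h2 : Ind Y T₂) : Ind (X × Y) (T₁ ∪ T₂) := by
  obtain ⟨g, hg⟩ := h1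
  obtain ⟨g', hg'⟩ := h2
  refine ⟨(g, g'), fun r hr => ?_⟩
  rw [Prod.orderOf_mk]
  rcases Finset.mem_union.1 hr with h | h
  · exact (hg r h).trans (Nat.dvd_lcm_left _ _)
  · exact (hg' r h).trans (Nat.dvd_lcm_right _ _)

theorem Ind.split [Finite X] [Finite Y] {T : Finset ℕ} (hT : ∀ r ∈ T, r.Prime) (h : Ind (X × Y) T) :
    ∃ T₁ ⊆ T, Ind X T₁ ∧ Ind Y (T \ T₁) := by
  classical
  obtain ⟨⟨g, g'⟩, hg⟩ := h
  refine ⟨T.filter (· ∣ orderOf g), Finset.filter_subset _ _, ⟨g, fun r hr => (Finset.mem_filter.1 hr).2⟩,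
    ⟨g', fun r hr => ?_⟩⟩
  have h1 := Finset.mem_sdiff.1 hr
  have h2 := hg r h1.1
  rw [Prod.orderOf_mk] at h2
  have h3 : r ∣ orderOf g * orderOf g' := h2.trans (Nat.lcm_dvd_mul _ _)
  rcases (hT r h1.1).dvd_mul.1 h3 with h4 | h4
  · exact absurd (Finset.mem_filter.2 ⟨h1.1, h4⟩) h1.2
  · exact h4

/-- **Direct products.** -/
theorem Pr.direct [Finite X] [Finite Y] {k κ : ℕ} {E : Finset ℕ} (hE : ∀ r ∈ E, r.Prime) (h : Pr k κ (X × Y) E) :
    ∃ c ≤ κ, ∃ A ⊆ E, A.card = c ∧ Ind X A ∧ (∀ T ⊆ E, Ind X T → T.card ≤ c) ∧ Pr k c X (E \ A) ∧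
      Pr k (κ - c) Y (E \ A) := by
  classical
  -- a largest subset of `E` for `X`
  obtain ⟨A, hA, hmax⟩ := Finset.exists_max_image (E.powerset.filter fun T => Ind X T) Finset.card
    ⟨∅, Finset.mem_filter.2 ⟨Finset.mem_powerset.2 (Finset.empty_subset _), ⟨1, fun r hr => absurd hr (Finset.notMem_empty r)⟩⟩⟩
  have hAE : A ⊆ E := Finset.mem_powerset.1 (Finset.mem_filter.1 hA).1
  have hAI : Ind X A := (Finset.mem_filter.1 hA).2
  have hmaxX : ∀ T ⊆ E, Ind X T → T.card ≤ A.card := fun T hT hI =>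
    hmax T (Finset.mem_filter.2 ⟨Finset.mem_powerset.2 hT, hI⟩)
  -- a largest subset of `E \ A` for `Y`
  obtain ⟨B, hB, hmax'⟩ := Finset.exists_max_image ((E \ A).powerset.filter fun T => Ind Y T) Finset.card
    ⟨∅, Finset.mem_filter.2 ⟨Finset.mem_powerset.2 (Finset.empty_subset _), ⟨1, fun r hr => absurd hr (Finset.notMem_empty r)⟩⟩⟩
  have hBE : B ⊆ E \ A := Finset.mem_powerset.1 (Finset.mem_filter.1 hB).1
  have hBI : Ind Y B := (Finset.mem_filter.1 hB).2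
  have hmaxY : ∀ T ⊆ E \ A, Ind Y T → T.card ≤ B.card := fun T hT hI =>
    hmax' T (Finset.mem_filter.2 ⟨Finset.mem_powerset.2 hT, hI⟩)
  have hsum : A.card + B.card ≤ κ := by
    have h1 := h.1 (A ∪ B) (Finset.union_subset hAE (hBE.trans Finset.sdiff_subset)) (hAI.union_of_prod hBI)
    rwa [Finset.card_union_of_disjoint] at h1
    rw [Finset.disjoint_left]
    intro r hr hr'
    exact (Finset.mem_sdiff.1 (hBE hr')).2 hr
  refine ⟨A.card, by omega, A, hAE, rfl, hAI, hmaxX, ⟨fun T hT hI => hmaxX T (hT.trans Finset.sdiff_subset) hI, ?_⟩, ?_, ?_⟩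
  · intro T hT hk
    obtain ⟨C, hC, hCc, hCI⟩ := h.2 T (hT.trans Finset.sdiff_subset) hk
    have hCE : C ⊆ E \ A := hC.trans hT
    obtain ⟨C₁, hC₁, h1, h2⟩ := hCI.split (fun r hr => hE r (Finset.mem_sdiff.1 (hCE hr)).1)
    have h3 := hmaxY (C \ C₁) (Finset.sdiff_subset.trans hCE) h2
    rw [Finset.card_sdiff_of_subset hC₁] at h3
    have h4 := Finset.card_le_card hC₁
    obtain ⟨D, hD, hDc⟩ := Finset.exists_subset_card_eq (s := C₁) (n := A.card) (by omega)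
    exact ⟨D, hD.trans (hC₁.trans hC), hDc, h1.mono hD⟩
  · intro T hT hI
    have h1 := h.1 (A ∪ T) (Finset.union_subset hAE (hT.trans Finset.sdiff_subset)) (hAI.union_of_prod hI)
    rw [Finset.card_union_of_disjoint] at h1
    · omega
    rw [Finset.disjoint_left]
    intro r hr hr'
    exact (Finset.mem_sdiff.1 (hT hr')).2 hr
  · intro T hT hk
    obtain ⟨C, hC, hCc, hCI⟩ := h.2 T (hT.trans Finset.sdiff_subset) hk
    have hCE : C ⊆ E \ A := hC.trans hT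
    obtain ⟨C₁, hC₁, h1, h2⟩ := hCI.split (fun r hr => hE r (Finset.mem_sdiff.1 (hCE hr)).1)
    have h3 := hmaxX C₁ (hC₁.trans (hCE.trans Finset.sdiff_subset)) h1
    have h4 := Finset.card_sdiff_of_subset hC₁
    obtain ⟨D, hD, hDc⟩ := Finset.exists_subset_card_eq (s := C \ C₁) (n := κ - A.card) (by omega)
    exact ⟨D, hD.trans (Finset.sdiff_subset.trans hC), hDc, h2.mono hD⟩

end Cfsg.Agent.H370.DP
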