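import Cfsg.Agent.H370.DP.Basic
import Cfsg.Agent.H369.Socle

/-!
# Components of groups without solvable normal subgroups (helper370)
-/

set_option autoImplicit false

namespace Cfsg.Agent.H370.DP

open Subgroup Cfsg Cfsg.Agent.H369.Socle Cfsg.Agent.SignalizersComponents.Components

variable {X : Type*} [Group X]

/-! ### the permutation action -/

theorem mem_kerPerm {𝓐 : Set (Subgroup X)} {h : X} : h ∈ kerPerm 𝓐 ↔ ∀ C ∈ 𝓐, cj h C = C := by
  unfold kerPerm
  simp only [mem_iInf]
  refine forall_congr' fun C => forall_congr' fun _ => ?_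
  rw [mem_normalizer_iff]
  constructor
  · intro h1
    ext x
    rw [mem_cj, h1 (h⁻¹ * x * h)]
    have : h * (h⁻¹ * x * h) * h⁻¹ = x := by group
    rw [this]
  · intro h1 x
    have h2 : h * x * h⁻¹ ∈ cj h C ↔ h * x * h⁻¹ ∈ C := by rw [h1]
    rw [mem_cj] at h2
    have : h⁻¹ * (h * x * h⁻¹) * h = x := by group
    rw [this] at h2
    exact h2

theorem cj_inv_cj (h : X) (C : Subgroup X) : cj h⁻¹ (cj h C) = C := by rw [← cj_mul, inv_mul_cancel, cj_one]

theorem cj_cj_inv (h : X) (C : Subgroup X) : cj h (cj h⁻¹ C) = C := by rw [← cj_mul, mul_inv_cancel, cj_one]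

/-- the action on an invariant set of subgroups -/
def permHom {𝓐 : Set (Subgroup X)} (hinv : ∀ C ∈ 𝓐, ∀ h : X, cj h C ∈ 𝓐) : X →* Equiv.Perm 𝓐 where
  toFun h :=
    { toFun := fun C => ⟨cj h C, hinv C C.2 h⟩
      invFun := fun C => ⟨cj h⁻¹ C, hinv C C.2 h⁻¹⟩
      left_inv := fun C => Subtype.ext (cj_inv_cj h C)
      right_inv := fun C => Subtype.ext (cj_cj_inv h C) }
  map_one' := by ext1 C; exact Subtype.ext (cj_one _)
  map_mul' a b := by ext1 C; exact Subtype.ext (cj_mul a b _)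

theorem permHom_apply {𝓐 : Set (Subgroup X)} (hinv : ∀ C ∈ 𝓐, ∀ h : X, cj h C ∈ 𝓐) (h : X) (C : 𝓐) :
    ((permHom hinv h C : 𝓐) : Subgroup X) = cj h C := rfl

theorem ker_permHom {𝓐 : Set (Subgroup X)} (hinv : ∀ C ∈ 𝓐, ∀ h : X, cj h C ∈ 𝓐) : (permHom hinv).ker = kerPerm 𝓐 := by
  ext h
  rw [MonoidHom.mem_ker, mem_kerPerm]
  constructor
  · intro h1 C hC
    rw [← permHom_apply hinv h ⟨C, hC⟩, h1]
    rfl
  · intro h1
    ext1 C
    exact Subtype.ext (h1 C C.2)

theorem kerPerm_normal' {𝓐 : Set (Subgroup X)} (hinv : ∀ C ∈ 𝓐, ∀ h : X, cj h C ∈ 𝓐) : (kerPerm 𝓐).Normal := by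
  rw [← ker_permHom hinv]
  infer_instance

theorem index_kerPerm [Finite X] {𝓐 : Set (Subgroup X)} (hinv : ∀ C ∈ 𝓐, ∀ h : X, cj h C ∈ 𝓐) {r : ℕ} (hr : r.Prime)
    (h : 𝓐.ncard < r) : ¬ r ∣ (kerPerm 𝓐).index := by
  intro h1
  rw [← ker_permHom hinv, Subgroup.index_ker] at h1
  have h2 := h1.trans (card_subgroup_dvd_card (permHom hinv).range)
  rw [Nat.card_perm] at h2
  exact absurd (hr.dvd_factorial.1 h2) (not_le.2 h)

/-! ### products of commuting subgroups -/

theorem exists_dvd_card_of_sSup [Finite X] {𝓐 : Set (Subgroup X)}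
    (hcomm : ∀ C ∈ 𝓐, ∀ D ∈ 𝓐, C ≠ D → ∀ x ∈ C, ∀ y ∈ D, x * y = y * x) {r : ℕ} (hr : r.Prime)
    (h : r ∣ Nat.card (sSup 𝓐 : Subgroup X)) : ∃ C ∈ 𝓐, r ∣ Nat.card C := by
  classical
  have : Fintype 𝓐 := Fintype.ofFinite 𝓐
  have hc : Pairwise fun C D : 𝓐 => ∀ x y : X, x ∈ (C : Subgroup X) → y ∈ (D : Subgroup X) → Commute x y :=
    fun C D hne x y hx hy => hcomm C C.2 D D.2 (fun h => hne (Subtype.ext h)) x hx y hy
  have h1 := Subgroup.noncommPiCoprod_range (hcomm := hc)
  rw [sSup_eq_iSup', ← h1] at h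
  have h2 := h.trans (Subgroup.card_range_dvd _)
  rw [Nat.card_pi] at h2
  obtain ⟨C, -, hC⟩ := (hr.prime.dvd_finsetProd_iff _).1 h2
  exact ⟨C, C.2, hC⟩

/-- the product of a subgroup and its centralizer -/
def prodHom (S : Subgroup X) : S × centralizer (S : Set X) →* X :=
  MonoidHom.noncommCoprod S.subtype (centralizer (S : Set X)).subtype
    (fun s c => show Commute (S.subtype s) ((centralizer (S : Set X)).subtype c) from (mem_centralizer_iff.1 c.2 s s.2))

theorem prodHom_apply (S : Subgroup X) (s : S) (c : centralizer (S : Set X)) : prodHom S (s, c) = s * c := rfl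

theorem prodHom_injective {S : Subgroup X} (hS : center S = ⊥) : Function.Injective (prodHom S) := by
  rw [injective_iff_map_eq_one]
  rintro ⟨s, c⟩ h
  rw [prodHom_apply] at h
  have h1 : (s : X) = (c : X)⁻¹ := eq_inv_of_mul_eq_one_left h
  have h2 : s ∈ center S := by
    rw [mem_center_iff]
    intro t
    apply Subtype.ext
    rw [Subgroup.coe_mul, Subgroup.coe_mul, h1]
    exact (mem_centralizer_iff.1 (inv_mem c.2) t t.2)
  rw [hS, mem_bot] at h2
  subst h2
  have h3 : c = 1 := by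
    apply Subtype.ext
    simpa using h
  rw [h3]
  rfl

theorem range_prodHom (S : Subgroup X) : (prodHom S).range = S ⊔ centralizer (S : Set X) := by
  apply le_antisymm
  · rintro _ ⟨⟨s, c⟩, rfl⟩
    rw [prodHom_apply]
    exact mul_mem (mem_sup_left s.2) (mem_sup_right c.2)
  · refine sup_le ?_ ?_
    · intro s hs
      exact ⟨(⟨s, hs⟩, 1), by rw [prodHom_apply]; simp⟩
    · intro c hc
      exact ⟨(1, ⟨c, hc⟩), by rw [prodHom_apply]; simp⟩

theorem sup_le_range {𝓐 : Set (Subgroup X)}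
    (hcomm : ∀ C ∈ 𝓐, ∀ D ∈ 𝓐, C ≠ D → ∀ x ∈ C, ∀ y ∈ D, x * y = y * x) {S : Subgroup X} (hS : S ∈ 𝓐) :
    sSup 𝓐 ⊔ centralizer ((sSup 𝓐 : Subgroup X) : Set X) ≤ (prodHom S).range := by
  rw [range_prodHom]
  refine sup_le (sSup_le ?_) ((centralizer_le (show (S : Set X) ⊆ ((sSup 𝓐 : Subgroup X) : Set X) from
    fun x hx => (le_sSup hS : S ≤ sSup 𝓐) hx)).trans le_sup_right)
  intro D hD
  by_cases h : D = S
  · rw [h]
    exact le_sup_left
  · refine le_trans ?_ le_sup_right
    intro d hd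
    rw [mem_centralizer_iff]
    intro s hs
    exact hcomm S hS D hD (Ne.symm h) s hs d hd

/-! ### independent elements -/

theorem exists_prod_order {B : Finset ℕ} (hp : ∀ b ∈ B, b.Prime) (x : ℕ → X) (hx : ∀ b ∈ B, orderOf (x b) = b)
    (hc : ∀ a ∈ B, ∀ b ∈ B, a ≠ b → Commute (x a) (x b)) :
    ∃ g : X, orderOf g = ∏ b ∈ B, b ∧ ∀ z : X, (∀ b ∈ B, Commute z (x b)) → Commute z g := by
  classical
  induction B using Finset.induction_on with
  | empty => exact ⟨1, by simp, fun z _ => Commute.one_right z⟩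
  | insert a s ha ih =>
    obtain ⟨g, h1, h2⟩ := ih (fun b hb => hp b (Finset.mem_insert_of_mem hb)) (fun b hb => hx b (Finset.mem_insert_of_mem hb))
      (fun b hb c hc' hne => hc b (Finset.mem_insert_of_mem hb) c (Finset.mem_insert_of_mem hc') hne)
    have h3 : Commute (x a) g := h2 _ fun b hb => hc a (Finset.mem_insert_self a s) b (Finset.mem_insert_of_mem hb)
      (fun h => ha (h ▸ hb))
    have h4 : (orderOf (x a)).Coprime (orderOf g) := by
      rw [hx a (Finset.mem_insert_self a s), h1]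
      refine Nat.Coprime.prod_right fun b hb => ?_
      rw [Nat.coprime_primes (hp a (Finset.mem_insert_self a s)) (hp b (Finset.mem_insert_of_mem hb))]
      exact fun h => ha (h ▸ hb)
    refine ⟨x a * g, ?_, ?_⟩
    · rw [h3.orderOf_mul_eq_mul_orderOf_of_coprime h4, hx a (Finset.mem_insert_self a s), h1, Finset.prod_insert ha]
    · intro z hz
      exact (hz a (Finset.mem_insert_self a s)).mul_right (h2 z fun b hb => hz b (Finset.mem_insert_of_mem hb))

theorem ind_of_comm {B : Finset ℕ} (hp : ∀ b ∈ B, b.Prime) (x : ℕ → X) (hx : ∀ b ∈ B, orderOf (x b) = b)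
    (hc : ∀ a ∈ B, ∀ b ∈ B, a ≠ b → Commute (x a) (x b)) : Ind X B := by
  obtain ⟨g, h1, -⟩ := exists_prod_order hp x hx hc
  refine ⟨g, fun r hr => ?_⟩
  rw [h1]
  exact Finset.dvd_prod_of_mem _ hr

/-- **Greedy matching** of primes and components. -/
theorem exists_matching [Finite X] {𝓐 : Set (Subgroup X)}
    (hcomm : ∀ C ∈ 𝓐, ∀ D ∈ 𝓐, C ≠ D → ∀ x ∈ C, ∀ y ∈ D, x * y = y * x) {E : Finset ℕ} (hE : ∀ r ∈ E, r.Prime) :
    ∃ B ⊆ E, Ind X B ∧ {C ∈ 𝓐 | ∃ r ∈ E \ B, r ∣ Nat.card C}.ncard ≤ B.card := by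
  classical
  let P : Finset ℕ → Prop := fun B => ∃ φ : ℕ → Subgroup X, Set.InjOn φ (B : Set ℕ) ∧ ∀ b ∈ B, φ b ∈ 𝓐 ∧ b ∣ Nat.card (φ b)
  obtain ⟨B, hB, hmax⟩ := Finset.exists_max_image (E.powerset.filter P) Finset.card
    ⟨∅, Finset.mem_filter.2 ⟨Finset.mem_powerset.2 (Finset.empty_subset _), fun _ => ⊥, by simp, by simp⟩⟩
  obtain ⟨φ, hφ, hφB⟩ := (Finset.mem_filter.1 hB).2
  have hBE : B ⊆ E := Finset.mem_powerset.1 (Finset.mem_filter.1 hB).1
  refine ⟨B, hBE, ?_, ?_⟩
  · have hx : ∀ b : ℕ, ∃ x : X, b ∈ B → orderOf x = b ∧ x ∈ φ b := by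
      intro b
      by_cases hb : b ∈ B
      · have := Fact.mk (hE b (hBE hb))
        obtain ⟨x, hx⟩ := exists_prime_orderOf_dvd_card' b (hφB b hb).2
        exact ⟨x, fun _ => ⟨by rw [Subgroup.orderOf_coe, hx], x.2⟩⟩
      · exact ⟨1, fun h => absurd h hb⟩
    choose x hx using hx
    refine ind_of_comm (fun b hb => hE b (hBE hb)) x (fun b hb => (hx b hb).1) ?_
    intro a ha b hb hne
    exact hcomm _ (hφB a ha).1 _ (hφB b hb).1 (fun h => hne (hφ ha hb h)) _ (hx a ha).2 _ (hx b hb).2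
  · have h1 : {C ∈ 𝓐 | ∃ r ∈ E \ B, r ∣ Nat.card C} ⊆ ((B.image φ : Finset (Subgroup X)) : Set (Subgroup X)) := by
      rintro C ⟨hC, r, hr, hrC⟩
      by_contra hcon
      have hrB := (Finset.mem_sdiff.1 hr).2
      have h2 : P (insert r B) := by
        refine ⟨Function.update φ r C, ?_, ?_⟩
        · intro a ha b hb hab
          rw [Finset.mem_coe, Finset.mem_insert] at ha hb
          by_cases har : a = r
          · by_cases hbr : b = r
            · rw [har, hbr]
            · exfalso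
              rw [har, Function.update_self, Function.update_of_ne hbr] at hab
              apply hcon
              rw [Finset.mem_coe, Finset.mem_image]
              exact ⟨b, hb.resolve_left hbr, hab.symm⟩
          · by_cases hbr : b = r
            · exfalso
              rw [hbr, Function.update_self, Function.update_of_ne har] at hab
              apply hcon
              rw [Finset.mem_coe, Finset.mem_image]
              exact ⟨a, ha.resolve_left har, hab⟩
            · rw [Function.update_of_ne har, Function.update_of_ne hbr] at hab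
              exact hφ (ha.resolve_left har) (hb.resolve_left hbr) hab
        · intro b hb
          rcases Finset.mem_insert.1 hb with h | h
          · rw [h, Function.update_self]
            exact ⟨hC, hrC⟩
          · have : b ≠ r := fun h' => hrB (h' ▸ h)
            rw [Function.update_of_ne this]
            exact hφB b h
      have h3 := hmax (insert r B) (Finset.mem_filter.2 ⟨Finset.mem_powerset.2 (Finset.insert_subset
        (Finset.mem_sdiff.1 hr).1 hBE), h2⟩)
      rw [Finset.card_insert_of_notMem hrB] at h3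
      omega
    have h2 := Set.ncard_le_ncard h1 (Finset.finite_toSet _)
    rw [Set.ncard_coe_finset] at h2
    exact h2.trans Finset.card_image_le

end Cfsg.Agent.H370.DP
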