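import Cfsg.Agent.H370.DP.Top
import Cfsg.Agent.H421.DPTwo

/-!
# The direct power of `PSL_n(2)` (helper370)
-/

set_option autoImplicit false

universe u v

namespace Cfsg.Agent.H370.DP

open Subgroup Cfsg

/-- a prime power dividing the order of a tuple divides the order of an entry -/
theorem exists_comp_dvd {ι : Type*} [Finite ι] {S : ι → Type*} [∀ i, Group (S i)] [∀ i, Finite (S i)] {r a : ℕ} (hr : r.Prime)
    (ha : 1 ≤ a) {g : ∀ i, S i} (h : r ^ a ∣ orderOf g) : ∃ i, r ^ a ∣ orderOf (g i) := by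
  by_contra hcon
  push Not at hcon
  set N := orderOf g / r ^ a with hN
  have hpos : 0 < orderOf g := orderOf_pos g
  have h1 : orderOf (g ^ N) = r ^ a := orderOf_pow_orderOf_div hpos.ne' h
  have h2 : ∀ i, (g i ^ N) ^ r ^ (a - 1) = 1 := by
    intro i
    have h3 : (g i ^ N) ^ r ^ a = 1 := by
      have h4 : (g ^ N) ^ r ^ a = 1 := by rw [← h1]; exact pow_orderOf_eq_one _
      exact congrFun h4 i
    obtain ⟨b, hb, hb'⟩ := (Nat.dvd_prime_pow hr).1 (orderOf_dvd_of_pow_eq_one h3)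
    have h5 : b ≠ a := by
      rintro rfl
      exact hcon i (hb' ▸ orderOf_pow_dvd N)
    rw [← orderOf_dvd_iff_pow_eq_one, hb']
    exact pow_dvd_pow r (by omega)
  have h6 : (g ^ N) ^ r ^ (a - 1) = 1 := by
    funext i
    exact h2 i
  have h7 := orderOf_dvd_of_pow_eq_one h6
  rw [h1] at h7
  have h8 := (Nat.pow_dvd_pow_iff_le_right hr.one_lt).1 h7
  omega

theorem exists_comp_dvd' {ι : Type*} [Finite ι] {S : ι → Type*} [∀ i, Group (S i)] [∀ i, Finite (S i)] {r : ℕ} (hr : r.Prime)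
    {g : ∀ i, S i} (h : r ∣ orderOf g) : ∃ i, r ∣ orderOf (g i) := by
  have h1 := exists_comp_dvd hr le_rfl (g := g) (by rwa [pow_one])
  rwa [pow_one] at h1

theorem orderOf_comp_dvd {ι : Type*} {S : ι → Type*} [∀ i, Group (S i)] (g : ∀ i, S i) (i : ι) :
    orderOf (g i) ∣ orderOf g := orderOf_map_dvd (Pi.evalMonoidHom S i) g

section

variable {F : Type v} [Field F] [Fintype F] (hF : Fintype.card F = 2) {l k : ℕ}

include hF

theorem bnd_pl (n : ℕ) : Bnd n (PL F n) := fun r hr h2 h => (Cfsg.Agent.H188.Fac.PLTwo.dvd_card hF hr h2).1 h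

theorem bnd_pow (n : ℕ) : Bnd n (Fin k → PL F n) := by
  intro r hr h2 h
  rw [Nat.card_pi] at h
  obtain ⟨i, -, hi⟩ := (hr.prime.dvd_finsetProd_iff _).1 h
  exact bnd_pl hF n r hr h2 hi

theorem two_pow_pow : ¬ ∃ g : Fin k → PL F (2 ^ l), 2 ^ (l + 1) ∣ orderOf g := by
  rintro ⟨g, hg⟩
  obtain ⟨i, hi⟩ := exists_comp_dvd Nat.prime_two (by omega) hg
  exact Cfsg.Agent.H421.DPTwo.two_pow hF le_rfl (g i) hi

theorem pr_pow {n : ℕ} (hn : 14 ≤ n) : Pr k k (Fin k → PL F n) (RR n) := by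
  have hB := big_RR hn
  refine ⟨fun T hT hI => ?_, fun T hT hTk => ⟨T, Finset.Subset.refl T, hTk, ?_⟩⟩
  · have h1 := ind_pi_card_le (ι := Fin k) (S := fun _ => PL F n) hB.prime
      (fun i T hT hI => ind_pl_card_le_one hF le_rfl hB hT hI) hT hI
    rwa [Fintype.card_fin] at h1
  · let e : Fin k ≃ T := (Fintype.equivFinOfCardEq (by rw [Fintype.card_coe, hTk])).symm
    have h1 : ∀ j : Fin k, ∃ g : PL F n, orderOf g = (e j : ℕ) := by
      intro j
      have h2 := (e j).2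
      have hp := hB.prime _ (hT h2)
      have := Fact.mk hp
      exact exists_prime_orderOf_dvd_card' _ ((Cfsg.Agent.H188.Fac.PLTwo.dvd_card hF hp (ne_two_of_big (by omega) hB (hT h2))).2
        (hB.1 _ (hT h2)).2.2)
    choose g hg using h1
    refine ⟨g, fun r hr => ?_⟩
    have h2 := orderOf_comp_dvd g (e.symm ⟨r, hr⟩)
    rwa [hg, e.apply_symm_apply] at h2

end

section spec

variable {G : Type u} [Group G] [Finite G] {L : Type v} [Group L] [Finite L]

theorem ind_iff (h : Set.range (orderOf : G → ℕ) = Set.range (orderOf : L → ℕ)) (T : Finset ℕ) : Ind G T ↔ Ind L T := by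
  constructor
  · rintro ⟨g, hg⟩
    obtain ⟨y, hy⟩ : orderOf g ∈ Set.range (orderOf : L → ℕ) := h ▸ ⟨g, rfl⟩
    exact ⟨y, fun r hr => hy ▸ hg r hr⟩
  · rintro ⟨g, hg⟩
    obtain ⟨y, hy⟩ : orderOf g ∈ Set.range (orderOf : G → ℕ) := h ▸ ⟨g, rfl⟩
    exact ⟨y, fun r hr => hy ▸ hg r hr⟩

theorem exists_iff (h : Set.range (orderOf : G → ℕ) = Set.range (orderOf : L → ℕ)) (n : ℕ) :
    (∃ g : G, n ∣ orderOf g) ↔ ∃ g : L, n ∣ orderOf g := by
  constructor
  · rintro ⟨g, hg⟩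
    obtain ⟨y, hy⟩ : orderOf g ∈ Set.range (orderOf : L → ℕ) := h ▸ ⟨g, rfl⟩
    exact ⟨y, hy ▸ hg⟩
  · rintro ⟨g, hg⟩
    obtain ⟨y, hy⟩ : orderOf g ∈ Set.range (orderOf : G → ℕ) := h ▸ ⟨g, rfl⟩
    exact ⟨y, hy ▸ hg⟩

theorem dvd_card_iff (h : Set.range (orderOf : G → ℕ) = Set.range (orderOf : L → ℕ)) {r : ℕ} (hr : r.Prime) :
    r ∣ Nat.card G ↔ r ∣ Nat.card L := by
  have := Fact.mk hr
  have key : ∀ (H : Type _) [Group H] [Finite H], (r ∣ Nat.card H ↔ ∃ g : H, r ∣ orderOf g) := by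
    intro H _ _
    constructor
    · intro hd
      obtain ⟨g, hg⟩ := exists_prime_orderOf_dvd_card' r hd
      exact ⟨g, by rw [hg]⟩
    · rintro ⟨g, hg⟩
      exact hg.trans (orderOf_dvd_natCard g)
  have key' : ∀ (H : Type _) [Group H] [Finite H], (r ∣ Nat.card H ↔ ∃ g : H, r ∣ orderOf g) := by
    intro H _ _
    constructor
    · intro hd
      obtain ⟨g, hg⟩ := exists_prime_orderOf_dvd_card' r hd
      exact ⟨g, by rw [hg]⟩
    · rintro ⟨g, hg⟩
      exact hg.trans (orderOf_dvd_natCard g)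
  rw [key G, key' L, exists_iff h]

end spec

/-- the structure theorem for `G` isospectral to the direct power -/
theorem topData {F : Type v} [Field F] [Fintype F] (hF : Fintype.card F = 2) {l k : ℕ} (hk : 2 ≤ k) (hn : 56 * k ^ 2 ≤ 2 ^ l)
    (hcov : CovD.{u} l k) (hcovT : CovT.{u} F l k) {G : Type u} [Group G] [Finite G]
    (h : Set.range (orderOf : G → ℕ) = Set.range (orderOf : (Fin k → PL F (2 ^ l)) → ℕ)) :
    ∃ (R : Subgroup G) (_ : R.Normal) (𝓐 : Set (Subgroup (G ⧸ R))) (Ω : Finset ℕ), TopData F l k G R 𝓐 Ω := by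
  have hn14 : 14 ≤ 2 ^ l := by nlinarith
  refine top hF hk hn hcov hcovT ?_ ?_ ?_
  · intro r hr h2 hrG
    exact bnd_pow hF (k := k) _ r hr h2 ((dvd_card_iff h hr).1 hrG)
  · rintro ⟨g, hg⟩
    exact two_pow_pow hF ((exists_iff h _).1 ⟨g, by rw [hg]⟩)
  · exact (pr_pow hF hn14).of_iff (fun T _ => (ind_iff h T).2) (fun T _ => (ind_iff h T).1)

end Cfsg.Agent.H370.DP
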