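import Cfsg.Agent.H370.DP.Rec
import Cfsg.Agent.Lib.Zsigmondy

/-!
# Numbers, primes with given index, products (helper370)
-/

set_option autoImplicit false

namespace Cfsg.Agent.H370.DP

open Subgroup

/-! ### numbers -/

theorem eight_le {l k : ℕ} (hk : 2 ≤ k) (hn : 56 * k ^ 2 ≤ 2 ^ l) : 8 ≤ l := by
  by_contra h
  have h1 : 2 ^ l ≤ 2 ^ 7 := Nat.pow_le_pow_right (by norm_num) (by omega)
  nlinarith

theorem four_sq_le {l : ℕ} (hl : 8 ≤ l) : 4 * l ^ 2 ≤ 2 ^ l := by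
  induction l, hl using Nat.le_induction with
  | base => norm_num
  | succ l hl ih =>
    rw [pow_succ 2 l]
    nlinarith

theorem mul_le {l k : ℕ} (hk : 2 ≤ k) (hn : 56 * k ^ 2 ≤ 2 ^ l) : 14 * (l * k) ≤ 2 ^ l := by
  have h1 := four_sq_le (eight_le hk hn)
  have h2 : (14 * (l * k)) ^ 2 ≤ (2 ^ l) ^ 2 := by
    have h3 : (4 * l ^ 2) * (56 * k ^ 2) ≤ 2 ^ l * 2 ^ l := Nat.mul_le_mul h1 hn
    nlinarith [Nat.zero_le (l ^ 2 * k ^ 2)]
  exact (Nat.pow_le_pow_iff_left (by norm_num)).1 h2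

/-! ### primes with a given index -/

theorem exists_prime_index {i : ℕ} (hi : 7 ≤ i) : ∃ w : ℕ, w.Prime ∧ orderOf (2 : ZMod w) = i := by
  obtain ⟨w, hw, ho⟩ := Lib.Zsigmondy.exists_prime_orderOf (a := 2) (n := i) le_rfl (by omega) (by omega) (by omega)
  exact ⟨w, hw, by simpa using ho⟩

/-- a prime of index `i` -/
noncomputable def P (i : ℕ) : ℕ := if h : 7 ≤ i then (exists_prime_index h).choose else 0

theorem P_prime {i : ℕ} (hi : 7 ≤ i) : (P i).Prime := by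
  unfold P
  rw [dif_pos hi]
  exact (exists_prime_index hi).choose_spec.1

theorem P_ord {i : ℕ} (hi : 7 ≤ i) : orderOf (2 : ZMod (P i)) = i := by
  unfold P
  rw [dif_pos hi]
  exact (exists_prime_index hi).choose_spec.2

theorem P_inj {i j : ℕ} (hi : 7 ≤ i) (hj : 7 ≤ j) (h : P i = P j) : i = j := by
  rw [← P_ord hi, ← P_ord hj, h]

/-- the primes of large index -/
noncomputable def RR (n : ℕ) : Finset ℕ := (Finset.Ioc (n / 2) n).image P

theorem mem_RR {n r : ℕ} : r ∈ RR n ↔ ∃ i, n / 2 < i ∧ i ≤ n ∧ P i = r := by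
  unfold RR
  rw [Finset.mem_image]
  constructor
  · rintro ⟨i, hi, rfl⟩
    rw [Finset.mem_Ioc] at hi
    exact ⟨i, hi.1, hi.2, rfl⟩
  · rintro ⟨i, h1, h2, rfl⟩
    exact ⟨i, Finset.mem_Ioc.2 ⟨h1, h2⟩, rfl⟩

theorem big_RR {n : ℕ} (hn : 14 ≤ n) : Big n (RR n) := by
  refine ⟨fun r hr => ?_, ?_⟩
  · obtain ⟨i, h1, h2, rfl⟩ := mem_RR.1 hr
    rw [P_ord (by omega)]
    exact ⟨P_prime (by omega), by omega, h2⟩
  · intro r hr s hs h
    obtain ⟨i, h1, h2, rfl⟩ := mem_RR.1 hr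
    obtain ⟨j, h3, h4, rfl⟩ := mem_RR.1 hs
    simp only at h
    rw [P_ord (by omega), P_ord (by omega)] at h
    rw [h]

theorem card_RR {n : ℕ} (hn : 14 ≤ n) : (RR n).card = n - n / 2 := by
  unfold RR
  rw [Finset.card_image_of_injOn, Nat.card_Ioc]
  intro i hi j hj h
  rw [Finset.mem_coe, Finset.mem_Ioc] at hi hj
  exact P_inj (by omega) (by omega) h

/-! ### products -/

theorem ind_pi_card_le {ι : Type*} [Fintype ι] {S : ι → Type*} [∀ i, Group (S i)] [∀ i, Finite (S i)] {E : Finset ℕ}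
    (hE : ∀ r ∈ E, r.Prime) (h : ∀ i, ∀ T ⊆ E, Ind (S i) T → T.card ≤ 1) {T : Finset ℕ} (hT : T ⊆ E)
    (hI : Ind (∀ i, S i) T) : T.card ≤ Fintype.card ι := by
  classical
  obtain ⟨g, hg⟩ := hI
  have h1 : ∀ r ∈ T, ∃ i, r ∣ orderOf (g i) := by
    intro r hr
    have h2 : orderOf g ∣ ∏ i, orderOf (g i) := by
      rw [orderOf_dvd_iff_pow_eq_one]
      funext i
      rw [Pi.pow_apply, Pi.one_apply, ← orderOf_dvd_iff_pow_eq_one]
      exact Finset.dvd_prod_of_mem _ (Finset.mem_univ i)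
    obtain ⟨i, -, hi⟩ := ((hE r (hT hr)).prime.dvd_finsetProd_iff _).1 ((hg r hr).trans h2)
    exact ⟨i, hi⟩
  have h3 : T ⊆ Finset.univ.biUnion fun i => T.filter (· ∣ orderOf (g i)) := by
    intro r hr
    obtain ⟨i, hi⟩ := h1 r hr
    rw [Finset.mem_biUnion]
    exact ⟨i, Finset.mem_univ i, Finset.mem_filter.2 ⟨hr, hi⟩⟩
  refine (Finset.card_le_card h3).trans (Finset.card_biUnion_le.trans ?_)
  calc ∑ i, (T.filter (· ∣ orderOf (g i))).card ≤ ∑ _i : ι, 1 := by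
        apply Finset.sum_le_sum
        intro i _
        exact h i _ ((Finset.filter_subset _ _).trans hT) ⟨g i, fun r hr => (Finset.mem_filter.1 hr).2⟩
    _ = _ := by simp

theorem ind_sSup_card_le {X : Type*} [Group X] [Finite X] {𝓐 : Set (Subgroup X)}
    (hcomm : ∀ C ∈ 𝓐, ∀ D ∈ 𝓐, C ≠ D → ∀ x ∈ C, ∀ y ∈ D, x * y = y * x) {E : Finset ℕ}
    (hE : ∀ r ∈ E, r.Prime) (h : ∀ C ∈ 𝓐, ∀ T ⊆ E, Ind C T → T.card ≤ 1) {T : Finset ℕ} (hT : T ⊆ E)
    (hI : Ind (sSup 𝓐 : Subgroup X) T) : T.card ≤ 𝓐.ncard := by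
  classical
  have : Fintype 𝓐 := Fintype.ofFinite 𝓐
  have hc : Pairwise fun C D : 𝓐 => ∀ x y : X, x ∈ (C : Subgroup X) → y ∈ (D : Subgroup X) → Commute x y :=
    fun C D hne x y hx hy => hcomm C C.2 D D.2 (fun h => hne (Subtype.ext h)) x hx y hy
  have h1 := Subgroup.noncommPiCoprod_range (hcomm := hc)
  rw [← sSup_eq_iSup'] at h1
  have h2 : Ind (Subgroup.noncommPiCoprod hc).range T := by
    obtain ⟨g, hg⟩ := hI
    refine ⟨⟨g, by rw [h1]; exact g.2⟩, fun r hr => ?_⟩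
    rw [Subgroup.orderOf_mk, Subgroup.orderOf_coe]
    exact hg r hr
  have h3 := h2.of_surjective (Subgroup.noncommPiCoprod hc).rangeRestrict (MonoidHom.rangeRestrict_surjective _)
  have h4 := ind_pi_card_le hE (fun C : 𝓐 => h C C.2) hT h3
  rwa [← Nat.card_eq_fintype_card, Nat.card_coe_set_eq] at h4

end Cfsg.Agent.H370.DP
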