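import Cfsg.Agent.H370.DP.LSide
import Cfsg.Agent.H896.DP.FixAll
import Cfsg.Agent.H831.DPSolv
import Cfsg.Agent.H211.DP.OutSq
import Cfsg.Agent.H195.Misc.Chief

/-!
# Part III, step 1: the radical and the centralizer have no primes of large index (helper370)
-/

set_option autoImplicit false

universe u v

namespace Cfsg.Agent.H370.DP

open Subgroup Cfsg Cfsg.Agent.H369.Socle
open Cfsg.Agent.H188.Fac.PLTwo (pair_le dvd_card)

/-! ### the data -/

/-- the structure of the top of `G`, least degree `m₀` -/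
structure TopD (F : Type v) [Field F] (l k m₀ : ℕ) (G : Type u) [Group G] (R : Subgroup G) [R.Normal]
    (𝓐 : Set (Subgroup (G ⧸ R))) (Ω : Finset ℕ) : Prop where
  solv : Group.IsSolvable R
  nosol : NoSol (G ⧸ R)
  comp : ∀ C ∈ 𝓐, IsComponent C
  inv : ∀ C ∈ 𝓐, ∀ h : G ⧸ R, cj h C ∈ 𝓐
  card : 𝓐.ncard = k
  iso : ∀ S ∈ 𝓐, ∃ m, m₀ ≤ m ∧ m ≤ 2 ^ l ∧ Nonempty (S ≃* PL F m)
  rad : ∀ r ∈ Ω, ¬ r ∣ Nat.card R

/-- the numerical data: sets of indices -/
structure Params (l k m₀ : ℕ) (Ω : Finset ℕ) : Prop where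
  hk : 2 ≤ k
  le : 32 ≤ 2 ^ l
  kn : 4 * k ≤ 2 ^ l
  hm : 3 * 2 ^ l < 4 * m₀
  I : ∀ e : ℕ, ∃ I : Finset ℕ, I.card = k ∧ ∀ i ∈ I, Odd i ∧ 3 * 2 ^ l < 4 * i ∧ i + 1 ≤ m₀ ∧ i ≤ 2 ^ l ∧ P i ∈ Ω ∧
    i ≠ e ∧ i ≠ 3 * e
  J : ∀ e : ℕ, 2 ≤ e → ∃ J : Finset ℕ, J.card = k ∧ ∀ s ∈ J, 2 ^ l < 4 * s ∧ 2 * s < 2 ^ l ∧ Odd s ∧ ¬ e ∣ s ∧
    ¬ e ∣ 2 ^ l - s

/-! ### the index of `M C` -/

theorem sq_mem {X : Type*} [Group X] [Finite X] {𝓐 : Set (Subgroup X)} (hA : ∀ C ∈ 𝓐, IsComponent C)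
    (hout : ∀ C ∈ 𝓐, ∀ α : MulAut C, ∃ g : C, α * α = MulAut.conj g) {g : X} (hg : g ∈ kerPerm 𝓐) :
    g ^ 2 ∈ sSup 𝓐 ⊔ centralizer ((sSup 𝓐 : Subgroup X) : Set X) := by
  refine Cfsg.Agent.H831.DPSolv.mem_of_inner (Set.toFinite _) (comm_of hA) ?_
  intro C hC
  have h1 : g ∈ normalizer (C : Set X) := by
    have h2 := mem_kerPerm.1 hg C hC
    rwa [Cfsg.Agent.H831.DPBoost.mem_normalizer_iff_cj]
  obtain ⟨c, hc⟩ := hout C hC (C.normalizerMonoidHom ⟨g, h1⟩)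
  refine ⟨c, c.2, fun x hx => ?_⟩
  have h3 := congrArg (fun f : MulAut C => ((f ⟨x, hx⟩ : C) : X)) hc
  change g * (g * x * g⁻¹) * g⁻¹ = _ at h3
  have h4 : ((MulAut.conj c ⟨x, hx⟩ : C) : X) = c * x * (c : X)⁻¹ := rfl
  rw [h4] at h3
  rw [← h3, pow_two, mul_inv_rev]
  simp only [mul_assoc]

theorem not_dvd_index_of_out {X : Type*} [Group X] [Finite X] {𝓐 : Set (Subgroup X)} (hA : ∀ C ∈ 𝓐, IsComponent C)
    (hinv : ∀ C ∈ 𝓐, ∀ h : X, cj h C ∈ 𝓐) (hout : ∀ C ∈ 𝓐, ∀ α : MulAut C, ∃ g : C, α * α = MulAut.conj g) {r : ℕ}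
    (hr : r.Prime) (hr2 : r ≠ 2) (hrA : 𝓐.ncard < r) :
    ¬ r ∣ (sSup 𝓐 ⊔ centralizer ((sSup 𝓐 : Subgroup X) : Set X)).index := by
  have hMn := Cfsg.Agent.H831.DPSolv.sSup_normal hinv
  intro h
  rw [← relIndex_mul_index (sup_le_kerPerm hA)] at h
  rcases hr.dvd_mul.1 h with h1 | h1
  · rw [← QuotientGroup.ker_mk' (sSup 𝓐 ⊔ centralizer ((sSup 𝓐 : Subgroup X) : Set X)), Subgroup.relIndex_ker] at h1
    have := Fact.mk hr
    obtain ⟨y, hy⟩ := exists_prime_orderOf_dvd_card' r h1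
    obtain ⟨g, hg, hgy⟩ := y.2
    have h2 : y ^ 2 = 1 := by
      apply Subtype.ext
      rw [Subgroup.coe_pow, ← hgy, ← map_pow]
      exact (QuotientGroup.eq_one_iff _).2 (sq_mem hA hout hg)
    have h3 := orderOf_dvd_of_pow_eq_one h2
    rw [hy] at h3
    exact hr2 ((Nat.prime_dvd_prime_iff_eq hr Nat.prime_two).1 h3)
  · exact index_kerPerm hinv hr hrA h1

/-! ### too many primes -/

theorem no_ind_extra {F : Type v} [Field F] [Fintype F] (hF : Fintype.card F = 2) {n k : ℕ} (hn : 14 ≤ n) {I : Finset ℕ}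
    (hI : I.card = k) {e : ℕ} (hIe : ∀ i ∈ I, Odd i ∧ 3 * n < 4 * i ∧ i ≤ n ∧ i ≠ e ∧ i ≠ 3 * e) {r : ℕ} (hr : r.Prime)
    (hre : orderOf (2 : ZMod r) = e) (hen : n < 4 * e) : ¬ Ind (Fin k → PL F n) (insert r (I.image P)) := by
  classical
  rintro ⟨g, hg⟩
  have h1 : ∀ i : I, ∃ j, P i ∣ orderOf (g j) := by
    intro i
    have h2 := hIe i i.2
    exact exists_comp_dvd' (P_prime (by omega)) (hg _ (Finset.mem_insert_of_mem (Finset.mem_image_of_mem _ i.2)))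
  choose α hα using h1
  have hinj : Function.Injective α := by
    intro i j hij
    by_contra hne
    have h3 := hIe i i.2
    have h4 := hIe j j.2
    have h5 := hα i
    have h6 := hα j
    rw [← hij] at h6
    have hne' : (i : ℕ) ≠ j := fun h => hne (Subtype.ext h)
    have h7 : ¬ (j : ℕ) ∣ i := by
      rintro ⟨c, hc⟩
      have hc0 : c ≠ 0 := by rintro rfl; omega
      have hc1 : c ≠ 1 := by rintro rfl; omega
      have hc2 : 2 ≤ c := by omega
      nlinarith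
    have h8 := pair_le hF (P_prime (by omega)) (P_prime (by omega)) (P_ord (by omega)) (P_ord (by omega)) (by omega) (by omega)
      (by omega) h7 h5 h6
    omega
  have hbij : Function.Bijective α := (Fintype.bijective_iff_injective_and_card α).2 ⟨hinj, by
    rw [Fintype.card_coe, hI, Fintype.card_fin]⟩
  obtain ⟨j, hj⟩ := exists_comp_dvd' hr (hg r (Finset.mem_insert_self _ _))
  obtain ⟨i, rfl⟩ := hbij.2 j
  obtain ⟨⟨a, ha⟩, h4, h5, h6, h7⟩ := hIe i i.2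
  have h8 : ¬ e ∣ (i : ℕ) := by
    rintro ⟨c, hc⟩
    have hc0 : c ≠ 0 := by rintro rfl; omega
    have hc1 : c ≠ 1 := by rintro rfl; omega
    have hc2 : c ≠ 2 := by rintro rfl; omega
    have hc3 : c ≠ 3 := by rintro rfl; omega
    have hc4 : 4 ≤ c := by omega
    nlinarith
  have h9 := pair_le hF (P_prime (by omega)) hr (P_ord (by omega)) hre (by omega) (by omega) (by omega) h8 (hα i) hj
  omega

/-! ### independent primes in the product of the members -/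

theorem ind_sSup {X : Type*} [Group X] [Finite X] {𝓐 : Set (Subgroup X)}
    (hcomm : ∀ C ∈ 𝓐, ∀ D ∈ 𝓐, C ≠ D → ∀ x ∈ C, ∀ y ∈ D, x * y = y * x) {T : Finset ℕ} (hT : ∀ r ∈ T, r.Prime)
    (φ : ℕ → Subgroup X) (hφ : Set.InjOn φ (T : Set ℕ)) (hφA : ∀ r ∈ T, φ r ∈ 𝓐 ∧ r ∣ Nat.card (φ r)) :
    Ind (sSup 𝓐 : Subgroup X) T := by
  have h1 : ∀ r : ℕ, ∃ x : (sSup 𝓐 : Subgroup X), r ∈ T → orderOf x = r ∧ (x : X) ∈ φ r := by
    intro r
    by_cases hr : r ∈ T
    · have := Fact.mk (hT r hr)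
      obtain ⟨y, hy⟩ := exists_prime_orderOf_dvd_card' r (hφA r hr).2
      exact ⟨⟨y, le_sSup (hφA r hr).1 y.2⟩, fun _ => ⟨by rw [Subgroup.orderOf_mk, Subgroup.orderOf_coe, hy], y.2⟩⟩
    · exact ⟨1, fun h => absurd h hr⟩
  choose x hx using h1
  refine ind_of_comm hT x (fun b hb => (hx b hb).1) ?_
  intro a ha b hb hne
  apply Subtype.ext
  exact hcomm _ (hφA a ha).1 _ (hφA b hb).1 (fun h => hne (hφ ha hb h)) _ (hx a ha).2 _ (hx b hb).2

theorem TopD.comm {F : Type v} [Field F] {l k m₀ : ℕ} {G : Type u} [Group G] [Finite G] {R : Subgroup G} [R.Normal]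
    {𝓐 : Set (Subgroup (G ⧸ R))} {Ω : Finset ℕ} (D : TopD F l k m₀ G R 𝓐 Ω) :
    ∀ C ∈ 𝓐, ∀ D ∈ 𝓐, C ≠ D → ∀ x ∈ C, ∀ y ∈ D, x * y = y * x := comm_of D.comp

theorem TopD.out {F : Type v} [Field F] [Fintype F] (hF : Fintype.card F = 2) {l k m₀ : ℕ} {Ω : Finset ℕ}
    (Q : Params l k m₀ Ω) {G : Type u} [Group G] [Finite G] {R : Subgroup G} [R.Normal]
    {𝓐 : Set (Subgroup (G ⧸ R))} (D : TopD F l k m₀ G R 𝓐 Ω) :
    ∀ C ∈ 𝓐, ∀ α : MulAut C, ∃ g : C, α * α = MulAut.conj g := by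
  intro C hC α
  obtain ⟨m, h1, h2, ⟨e⟩⟩ := D.iso C hC
  have h3 := Q.hm
  have h4 := Q.le
  obtain ⟨g, hg⟩ := Cfsg.Agent.H211.DP.OutSq.out_sq hF (by omega : 3 ≤ m) (MulAut.congr e α)
  refine ⟨e.symm g, ?_⟩
  apply (MulAut.congr e).injective
  rw [map_mul, hg]
  ext x
  change g * x * g⁻¹ = e (MulAut.conj (e.symm g) (e.symm x))
  rw [MulAut.conj_apply, map_mul, map_mul, map_inv, e.apply_symm_apply, e.apply_symm_apply]

/-- distribution of `k` primes over the members -/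
theorem TopD.ind {F : Type v} [Field F] [Fintype F] (hF : Fintype.card F = 2) {l k m₀ : ℕ} {G : Type u} [Group G]
    [Finite G] {R : Subgroup G} [R.Normal] {𝓐 : Set (Subgroup (G ⧸ R))} {Ω : Finset ℕ} (D : TopD F l k m₀ G R 𝓐 Ω)
    {I : Finset ℕ} (hI : I.card = k) (hI7 : ∀ i ∈ I, 7 ≤ i) (hIm : ∀ i ∈ I, i ≤ m₀) :
    Ind (sSup 𝓐 : Subgroup (G ⧸ R)) (I.image P) := by
  classical
  have : Fintype 𝓐 := Fintype.ofFinite 𝓐
  have hcard : Fintype.card 𝓐 = Fintype.card I := by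
    rw [← Nat.card_eq_fintype_card, Nat.card_coe_set_eq, D.card, Fintype.card_coe, hI]
  let e : I ≃ 𝓐 := Fintype.equivOfCardEq hcard.symm
  have h1 : ∀ r ∈ I.image P, ∃ i : I, P i = r := by
    intro r hr
    obtain ⟨i, hi, rfl⟩ := Finset.mem_image.1 hr
    exact ⟨⟨i, hi⟩, rfl⟩
  let φ : ℕ → Subgroup (G ⧸ R) := fun r => if h : r ∈ I.image P then (e (h1 r h).choose : Subgroup (G ⧸ R)) else ⊥
  have hφ : ∀ i : I, φ (P i) = (e i : Subgroup (G ⧸ R)) := by
    intro i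
    have hmem : P i ∈ I.image P := Finset.mem_image_of_mem _ i.2
    change (if h : P i ∈ I.image P then (e (h1 (P i) h).choose : Subgroup (G ⧸ R)) else ⊥) = _
    rw [dif_pos hmem]
    have h2 := (h1 (P i) hmem).choose_spec
    have h3 : (h1 (P i) hmem).choose = i := Subtype.ext (P_inj (hI7 _ (h1 (P i) hmem).choose.2) (hI7 _ i.2) h2)
    rw [h3]
  refine ind_sSup D.comm ?_ φ ?_ ?_
  · intro r hr
    obtain ⟨i, rfl⟩ := h1 r hr
    exact P_prime (hI7 _ i.2)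
  · intro r hr s hs hrs
    obtain ⟨i, rfl⟩ := h1 r hr
    obtain ⟨j, rfl⟩ := h1 s hs
    rw [hφ, hφ] at hrs
    rw [e.injective (Subtype.ext hrs)]
  · intro r hr
    obtain ⟨i, rfl⟩ := h1 r hr
    rw [hφ]
    refine ⟨(e i).2, ?_⟩
    obtain ⟨m, h2, h3, ⟨e'⟩⟩ := D.iso _ (e i).2
    have h7 := hI7 _ i.2
    have hP2 : P i ≠ 2 := by
      intro h
      have h4 := P_ord h7
      rw [h, show (2 : ZMod 2) = 0 by decide, orderOf_zero] at h4
      omega
    rw [Nat.card_congr e'.toEquiv, dvd_card hF (P_prime h7) hP2, P_ord h7]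
    exact (hIm i i.2).trans h2

theorem P_ne_two {i : ℕ} (hi : 7 ≤ i) : P i ≠ 2 := by
  intro h
  have h4 := P_ord hi
  rw [h, show (2 : ZMod 2) = 0 by decide, orderOf_zero] at h4
  omega

/-- `M × C → G / R` -/
theorem ind_of_prod {X : Type*} [Group X] {M : Subgroup X} (hM : center M = ⊥) {T₁ T₂ : Finset ℕ} (h1 : Ind M T₁)
    (h2 : Ind (centralizer (M : Set X)) T₂) : Ind X (T₁ ∪ T₂) :=
  (h1.union_of_prod h2).of_injective _ (prodHom_injective hM)

theorem center_sSup {X : Type*} [Group X] [Finite X] (hR : NoSol X) {𝓐 : Set (Subgroup X)} (hA : ∀ C ∈ 𝓐, IsComponent C) :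
    center (sSup 𝓐 : Subgroup X) = ⊥ := by
  rw [eq_bot_iff]
  intro z hz
  rw [mem_bot]
  apply Subtype.ext
  have h1 : ∀ C ∈ 𝓐, ∀ x ∈ C, (z : X) * x * (z : X)⁻¹ = x := by
    intro C hC x hx
    have h2 := mem_center_iff.1 hz ⟨x, le_sSup hC hx⟩
    have h3 : x * (z : X) = z * x := congrArg Subtype.val h2
    rw [← h3, mul_inv_cancel_right]
  refine eq_one_of_centralizes hR ?_
  intro D hD x hx
  by_cases hDA : D ∈ 𝓐
  · exact h1 D hDA x hx
  · have h4 : (sSup 𝓐 : Subgroup X) ≤ centralizer (D : Set X) := by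
      refine sSup_le fun C hC c hc => ?_
      rw [mem_centralizer_iff]
      intro d hd
      exact comm_of_ne hD (hA C hC) (fun h => hDA (h ▸ hC)) hd hc
    have h5 := mem_centralizer_iff.1 (h4 z.2) x hx
    rw [← h5, mul_inv_cancel_right]

/-! ### step 1 -/

section step1

variable {F : Type v} [Field F] [Fintype F] (hF : Fintype.card F = 2) {l k m₀ : ℕ} {Ω : Finset ℕ} (Q : Params l k m₀ Ω)
  {G : Type u} [Group G] [Finite G] (h : Set.range (orderOf : G → ℕ) = Set.range (orderOf : (Fin k → PL F (2 ^ l)) → ℕ))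
  {R : Subgroup G} [R.Normal] {𝓐 : Set (Subgroup (G ⧸ R))} (D : TopD F l k m₀ G R 𝓐 Ω)

include hF Q h D

theorem cen_small {r : ℕ} (hr : r.Prime)
    (hrC : r ∣ Nat.card (centralizer ((sSup 𝓐 : Subgroup (G ⧸ R)) : Set (G ⧸ R)))) : 4 * orderOf (2 : ZMod r) ≤ 2 ^ l := by
  classical
  by_contra hlt
  have hn14 := Q.le
  obtain ⟨I, hIk, hI⟩ := Q.I (orderOf (2 : ZMod r))
  have h1 : Ind (sSup 𝓐 : Subgroup (G ⧸ R)) (I.image P) := D.ind hF hIk (fun i hi => by have := hI i hi; omega)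
    (fun i hi => by have := hI i hi; omega)
  have h2 := ind_of_prod (center_sSup D.nosol D.comp) h1 (ind_singleton hr hrC)
  have h3 : Ind G (insert r (I.image P)) := by
    refine Ind.of_surjective (QuotientGroup.mk' R) (QuotientGroup.mk'_surjective R) (h2.mono ?_)
    intro s hs
    rw [Finset.mem_insert] at hs
    rw [Finset.mem_union, Finset.mem_singleton]
    tauto
  refine no_ind_extra hF (by omega) hIk (e := orderOf (2 : ZMod r)) (fun i hi => ?_) hr rfl (by omega) ((ind_iff h _).1 h3)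
  obtain ⟨h4, h5, h6, h7, h8, h9, h10⟩ := hI i hi
  exact ⟨h4, h5, h7, h9, h10⟩

end step1

theorem exists_prod_order' {X : Type*} [Group X] {k : ℕ} [NeZero k] (p : Fin k → ℕ) (hp : ∀ j, (p j).Prime)
    (hinj : Function.Injective p) (x : Fin k → X) (hx : ∀ j, orderOf (x j) = p j) (hc : ∀ i j, x i * x j = x j * x i) :
    ∃ g : X, orderOf g = ∏ b ∈ Finset.univ.image p, b ∧ ∀ z : X, (∀ j, Commute z (x j)) → Commute z g := by
  classical
  have h1 : ∀ j, x (Function.invFun p (p j)) = x j := fun j => by rw [Function.leftInverse_invFun hinj j]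
  obtain ⟨g, h2, h3⟩ := exists_prod_order (B := Finset.univ.image p) (fun b hb => by
      obtain ⟨j, -, rfl⟩ := Finset.mem_image.1 hb
      exact hp j) (fun s => x (Function.invFun p s)) (fun b hb => by
      obtain ⟨j, -, rfl⟩ := Finset.mem_image.1 hb
      rw [h1, hx]) (fun a _ b _ _ => hc _ _)
  refine ⟨g, h2, fun z hz => h3 z fun b hb => ?_⟩
  exact hz _

/-- a nontrivial `2`-subgroup normalised and not centralised by an element of order `P i` -/
theorem exists_act {F : Type v} [Field F] [Fintype F] (hF : Fintype.card F = 2) {m i : ℕ} (hi : 7 ≤ i) (him : i + 1 ≤ m) :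
    ∃ (Q : Subgroup (PL F m)) (y : PL F m), IsPGroup 2 Q ∧ orderOf y = P i ∧ (∀ q ∈ Q, y * q * y⁻¹ ∈ Q) ∧
      ∃ q ∈ Q, y * q ≠ q * y := by
  obtain ⟨Q, y, hQ, hQ1, hy, hyQ, hfpf⟩ := Cfsg.Agent.H421.DPTwo.exists_frob hF (m := m) (i := i) (by omega) him
  have hpr := P_prime hi
  have hf := Fact.mk hpr
  have hdvd : P i ∣ 2 ^ i - 1 := by
    have h1 : (2 : ZMod (P i)) ^ i = 1 := by rw [← orderOf_dvd_iff_pow_eq_one, P_ord hi]
    rw [← ZMod.natCast_eq_zero_iff, Nat.cast_sub Nat.one_le_two_pow]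
    push_cast
    rw [h1, sub_self]
  have hpos : 0 < 2 ^ i - 1 := by
    have : 2 ^ 1 ≤ 2 ^ i := Nat.pow_le_pow_right (by norm_num) (by omega)
    omega
  obtain ⟨q, hq, hq1⟩ : ∃ q : PL F m, q ∈ Q ∧ q ≠ 1 := by
    obtain ⟨q, hq⟩ := Subgroup.ne_bot_iff_exists_ne_one.1 hQ1
    exact ⟨q, q.2, fun h => hq (Subtype.ext h)⟩
  refine ⟨Q, y ^ ((2 ^ i - 1) / P i), hQ, ?_, ?_, q, hq, ?_⟩
  · have h2 := orderOf_pow_orderOf_div (x := y) (n := P i) (by rw [hy]; omega) (by rw [hy]; exact hdvd)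
    rwa [hy] at h2
  · have h3 : ∀ j : ℕ, ∀ q ∈ Q, y ^ j * q * (y ^ j)⁻¹ ∈ Q := by
      intro j
      induction j with
      | zero => intro q hq; simpa using hq
      | succ j ih =>
        intro q hq
        have h4 := ih _ (hyQ q hq)
        have h5 : y ^ (j + 1) * q * (y ^ (j + 1))⁻¹ = y ^ j * (y * q * y⁻¹) * (y ^ j)⁻¹ := by
          rw [pow_succ]
          group
        rwa [h5]
    exact h3 _
  · intro hc
    apply hq1
    refine hfpf ((2 ^ i - 1) / P i) (Nat.div_pos (Nat.le_of_dvd hpos hdvd) hpr.pos) (Nat.div_lt_self hpos hpr.one_lt) q hq hc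

theorem rad_small {F : Type v} [Field F] [Fintype F] (hF : Fintype.card F = 2) {l k m₀ : ℕ} {Ω : Finset ℕ}
    (Q : Params l k m₀ Ω)
    {G : Type u} [Group G] [Finite G] (h : Set.range (orderOf : G → ℕ) = Set.range (orderOf : (Fin k → PL F (2 ^ l)) → ℕ))
    {R : Subgroup G} [hRn : R.Normal] {𝓐 : Set (Subgroup (G ⧸ R))} (D : TopD F l k m₀ G R 𝓐 Ω) {r : ℕ} (hr : r.Prime) (hrR : r ∣ Nat.card R) : 4 * orderOf (2 : ZMod r) ≤ 2 ^ l := by
  classical
  by_contra hlt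
  have hr2 : r ≠ 2 := by
    rintro rfl
    rw [show (2 : ZMod 2) = 0 by decide, orderOf_zero, mul_zero] at hlt
    exact hlt (Nat.zero_le _)
  have hn14 := Q.le
  have hk0 : NeZero k := ⟨by have := Q.hk; omega⟩
  obtain ⟨I, hIk, hI⟩ := Q.I (orderOf (2 : ZMod r))
  -- the chief factor
  obtain ⟨A, hAn, V, hAR, hVn, hVR, hV1, hVc, hVr⟩ := Cfsg.Agent.H195.Misc.exists_chief D.solv hr hrR
  let f : G ⧸ A →* G ⧸ R := QuotientGroup.map A R (MonoidHom.id G) (by simpa using hAR)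
  have hf : Function.Surjective f := by
    intro y
    obtain ⟨g, rfl⟩ := QuotientGroup.mk'_surjective R y
    exact ⟨QuotientGroup.mk' A g, rfl⟩
  have hker : f.ker = R.map (QuotientGroup.mk' A) := by
    ext x
    obtain ⟨g, rfl⟩ := QuotientGroup.mk'_surjective A x
    have h1 : f (QuotientGroup.mk' A g) = QuotientGroup.mk' R g := rfl
    rw [MonoidHom.mem_ker, h1]
    constructor
    · intro h2
      exact ⟨g, (QuotientGroup.eq_one_iff (N := R) g).1 h2, rfl⟩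
    · rintro ⟨g', hg', h2⟩
      have h3 : QuotientGroup.mk' R g' = QuotientGroup.mk' R g := congrArg f h2
      rw [← h3]
      exact (QuotientGroup.eq_one_iff (N := R) g').2 hg'
  have hkers : Group.IsSolvable f.ker := by
    rw [hker]
    have := D.solv
    exact Group.isSolvable_of_surjective (MonoidHom.subgroupMap_surjective (QuotientGroup.mk' A) R)
  have hkerc : Nat.card f.ker ∣ Nat.card R := by
    rw [hker]
    exact Subgroup.card_map_dvd _ _
  -- enumerations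
  let eI : Fin k ≃ I := (Fintype.equivFinOfCardEq (by rw [Fintype.card_coe, hIk])).symm
  have hfin : Finite 𝓐 := inferInstance
  let eA : Fin k ≃ 𝓐 := (Finite.equivFinOfCardEq (by rw [Nat.card_coe_set_eq, D.card])).symm
  have hex : ∀ j : Fin k, ∃ (Q : Subgroup (G ⧸ R)) (y : G ⧸ R), Q ≤ (eA j : Subgroup (G ⧸ R)) ∧ IsPGroup 2 Q ∧
      y ∈ (eA j : Subgroup (G ⧸ R)) ∧ orderOf y = P (eI j) ∧ (∀ q ∈ Q, y * q * y⁻¹ ∈ Q) ∧ ∃ q ∈ Q, y * q ≠ q * y := by
    intro j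
    obtain ⟨m, h1, h2, ⟨e⟩⟩ := D.iso _ (eA j).2
    have h3 := hI _ (eI j).2
    obtain ⟨Q, y, hQ, hy, hyQ, q, hq, hqy⟩ := exists_act hF (m := m) (i := (eI j : ℕ)) (by omega) (by omega)
    let ψ : PL F m →* G ⧸ R := ((eA j : Subgroup (G ⧸ R)).subtype).comp e.symm.toMonoidHom
    have hψ : Function.Injective ψ := (eA j : Subgroup (G ⧸ R)).subtype_injective.comp e.symm.injective
    have hψm : ∀ z, ψ z ∈ (eA j : Subgroup (G ⧸ R)) := fun z => (e.symm z).2
    refine ⟨Q.map ψ, ψ y, ?_, hQ.map ψ, hψm y, ?_, ?_, ψ q, ⟨q, hq, rfl⟩, ?_⟩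
    · rintro _ ⟨z, -, rfl⟩
      exact hψm z
    · rw [orderOf_injective ψ hψ, hy]
    · rintro _ ⟨z, hz, rfl⟩
      exact ⟨y * z * y⁻¹, hyQ z hz, by rw [map_mul, map_mul, map_inv]⟩
    · intro hc
      apply hqy
      apply hψ
      rw [map_mul, map_mul, hc]
  choose Q' y hQS hQ hyS hyo hyQ hqy using hex
  let instV : CommGroup V := { (inferInstance : Group V) with mul_comm := fun a b => Subtype.ext (hVc a a.2 b b.2) }
  have hVnt : Nontrivial V := (Subgroup.nontrivial_iff_ne_bot V).2 hV1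
  obtain ⟨x, hxc, hxS, v, hv1, hxv⟩ := Cfsg.Agent.H896.DP.fix_all (k := k) (X := G ⧸ A) (V := V) (Z := G ⧸ R)
    (MulAut.conjNormal (H := V)) hr hr2 (fun v => Subtype.ext (hVr v v.2)) f hkers
    (fun j => (eA j : Subgroup (G ⧸ R))) (fun j => isSimple D.nosol (D.comp _ (eA j).2))
    (fun i j hij a ha b hb => D.comm _ (eA i).2 _ (eA j).2 (fun h => hij (eA.injective (Subtype.ext h))) a ha b hb)
    (fun j z _ => hf z) (fun j => P (eI j)) (fun j => P_prime (by have := hI _ (eI j).2; omega))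
    (fun j => by rw [P_ord (by have := hI _ (eI j).2; omega)]; exact (hI _ (eI j).2).1)
    (fun j h1 => D.rad _ (hI _ (eI j).2).2.2.2.2.1 (h1.trans hkerc)) Q' hQS hQ y hyS hyo hyQ hqy
  have hpinj : Function.Injective fun j : Fin k => P (eI j) := by
    intro i j hij
    have := hI _ (eI i).2
    have := hI _ (eI j).2
    exact eI.injective (Subtype.ext (P_inj (by omega) (by omega) hij))
  obtain ⟨g, hg, hgc⟩ := exists_prod_order' (fun j : Fin k => P (eI j)) (fun j => P_prime (by have := hI _ (eI j).2; omega))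
    hpinj x (fun j => (hxS j).2) hxc
  have hvg : Commute (v : G ⧸ A) g := by
    apply hgc
    intro j
    have h1 := congrArg (fun w : V => (w : G ⧸ A)) (hxv j)
    have h2 : x j * (v : G ⧸ A) * (x j)⁻¹ = v := h1
    rw [mul_inv_eq_iff_eq_mul] at h2
    exact h2.symm
  have hvo : orderOf (v : G ⧸ A) = r := by
    have := Fact.mk hr
    refine orderOf_eq_prime (hVr v v.2) fun h1 => hv1 (Subtype.ext h1)
  have hT : (Finset.univ.image fun j : Fin k => P (eI j)) = I.image P := by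
    ext s
    simp only [Finset.mem_image, Finset.mem_univ, true_and]
    constructor
    · rintro ⟨j, rfl⟩
      exact ⟨_, (eI j).2, rfl⟩
    · rintro ⟨i, hi, rfl⟩
      exact ⟨eI.symm ⟨i, hi⟩, by rw [eI.apply_symm_apply]⟩
  have h3 : Ind G (insert r (I.image P)) := by
    refine Ind.of_surjective (QuotientGroup.mk' A) (QuotientGroup.mk'_surjective A) ⟨(v : G ⧸ A) * g, ?_⟩
    have h4 : (orderOf (v : G ⧸ A)).Coprime (orderOf g) := by
      rw [hvo, hg, hT]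
      refine Nat.Coprime.prod_right fun b hb => ?_
      obtain ⟨i, hi, rfl⟩ := Finset.mem_image.1 hb
      rw [Nat.coprime_primes hr (P_prime (by have := hI i hi; omega))]
      rintro rfl
      exact D.rad _ (hI i hi).2.2.2.2.1 hrR
    intro s hs
    rw [hvg.orderOf_mul_eq_mul_orderOf_of_coprime h4, hvo, hg, hT]
    rcases Finset.mem_insert.1 hs with rfl | hs
    · exact dvd_mul_right _ _
    · exact (Finset.dvd_prod_of_mem (fun b => b) hs).mul_left _
  refine no_ind_extra hF (by omega) hIk (e := orderOf (2 : ZMod r)) (fun i hi => ?_) hr rfl (by omega) ((ind_iff h _).1 h3)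
  obtain ⟨h4, h5, h6, h7, h8, h9, h10⟩ := hI i hi
  exact ⟨h4, h5, h7, h9, h10⟩

end Cfsg.Agent.H370.DP
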