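import Cfsg.Agent.H370.DP.Part1
import Cfsg.Agent.H446.DP.Final

/-!
# Part III, step 2: all components are `PSL_n(2)`, the centralizer of their product is trivial (helper370)
-/

set_option autoImplicit false

universe u v

namespace Cfsg.Agent.H370.DP

open Subgroup Cfsg Cfsg.Agent.H369.Socle
open Cfsg.Agent.H188.Fac.PLTwo (pair_le dvd_card tight exists_pair order_two)

/-! ### the test set -/

/-- the test set of primes -/
noncomputable def TJ (n : ℕ) (J : Finset ℕ) : Finset ℕ := J.image P ∪ (J.image (n - ·)).image P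

/-- good sets of indices -/
def GoodJ (n k : ℕ) (J : Finset ℕ) : Prop := J.card = k ∧ ∀ s ∈ J, n < 4 * s ∧ 2 * s < n ∧ Odd s

theorem mem_TJ {n : ℕ} {J : Finset ℕ} {r : ℕ} : r ∈ TJ n J ↔ ∃ s ∈ J, r = P s ∨ r = P (n - s) := by
  unfold TJ
  simp only [Finset.mem_union, Finset.mem_image, exists_exists_and_eq_and]
  constructor
  · rintro (⟨s, hs, rfl⟩ | ⟨s, hs, rfl⟩)
    · exact ⟨s, hs, Or.inl rfl⟩
    · exact ⟨s, hs, Or.inr rfl⟩
  · rintro ⟨s, hs, rfl | rfl⟩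
    · exact Or.inl ⟨s, hs, rfl⟩
    · exact Or.inr ⟨s, hs, rfl⟩

theorem TJ_spec {n k : ℕ} (hn : 32 ≤ n) {J : Finset ℕ} (hJ : GoodJ n k J) {r : ℕ} (hr : r ∈ TJ n J) :
    r.Prime ∧ r ≠ 2 ∧ n < 4 * orderOf (2 : ZMod r) := by
  obtain ⟨s, hs, h | h⟩ := mem_TJ.1 hr
  · have h1 := hJ.2 s hs
    rw [h, P_ord (by omega)]
    exact ⟨P_prime (by omega), P_ne_two (by omega), h1.1⟩
  · have h1 := hJ.2 s hs
    rw [h, P_ord (by omega)]
    exact ⟨P_prime (by omega), P_ne_two (by omega), by omega⟩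

theorem P_dvd {i : ℕ} (hi : 7 ≤ i) : P i ∣ 2 ^ i - 1 := by
  rw [order_two, P_ord hi]

theorem ind_TJ {F : Type v} [Field F] [Fintype F] (hF : Fintype.card F = 2) {n k : ℕ} (hn : 32 ≤ n) {J : Finset ℕ}
    (hJ : GoodJ n k J) : Ind (Fin k → PL F n) (TJ n J) := by
  let e : Fin k ≃ J := (Fintype.equivFinOfCardEq (by rw [Fintype.card_coe, hJ.1])).symm
  have h1 : ∀ j : Fin k, ∃ g : PL F n, orderOf g = Nat.lcm (2 ^ (n - (e j : ℕ)) - 1) (2 ^ (e j : ℕ) - 1) := by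
    intro j
    have h2 := hJ.2 _ (e j).2
    exact exists_pair hF (by omega) (by omega) (by omega)
  choose g hg using h1
  refine ⟨g, fun r hr => ?_⟩
  obtain ⟨s, hs, h⟩ := mem_TJ.1 hr
  have h2 := orderOf_comp_dvd g (e.symm ⟨s, hs⟩)
  rw [hg, e.apply_symm_apply] at h2
  refine Dvd.dvd.trans ?_ h2
  have h3 := hJ.2 s hs
  rcases h with rfl | rfl
  · exact (P_dvd (by omega)).trans (Nat.dvd_lcm_right _ _)
  · exact (P_dvd (by omega)).trans (Nat.dvd_lcm_left _ _)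

theorem no_ind_TJ {F : Type v} [Field F] [Fintype F] (hF : Fintype.card F = 2) {n k : ℕ} (hn : 32 ≤ n) (hne : Even n)
    {J : Finset ℕ} (hJ : GoodJ n k J) {p : ℕ} (hp : p.Prime)
    (hpJ : p ≠ 2 → ∀ s ∈ J, ¬ orderOf (2 : ZMod p) ∣ s ∧ ¬ orderOf (2 : ZMod p) ∣ n - s) :
    ¬ Ind (Fin k → PL F n) (insert p (TJ n J)) := by
  rintro ⟨g, hg⟩
  have hT : ∀ r ∈ TJ n J, ∃ i, r ∣ orderOf (g i) := fun r hr =>
    exists_comp_dvd' (TJ_spec hn hJ hr).1 (hg r (Finset.mem_insert_of_mem hr))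
  have h1 := Cfsg.Agent.H446.DP.tight_comb hF hn hne hJ.2 (by rw [hJ.1, Fintype.card_fin]) (fun _ : Fin k => n)
    (fun _ => le_rfl) g (fun s hs => hT _ (mem_TJ.2 ⟨s, hs, Or.inl rfl⟩)) (fun s hs => hT _ (mem_TJ.2 ⟨s, hs, Or.inr rfl⟩))
  obtain ⟨j, hj⟩ := exists_comp_dvd' hp (hg p (Finset.mem_insert_self _ _))
  obtain ⟨-, s, hs, h2, h3⟩ := h1 j
  obtain ⟨h4, h5, ⟨c, hc⟩⟩ := hJ.2 s hs
  obtain ⟨d, hd⟩ := hne
  have h6 : ¬ s ∣ n - s := by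
    rintro ⟨b, hb⟩
    have hb0 : b ≠ 0 := by rintro rfl; omega
    have hb1 : b ≠ 1 := by rintro rfl; omega
    have hb2 : b ≠ 2 := by rintro rfl; omega
    have hb3 : 3 ≤ b := by omega
    have hb4 : s * 3 ≤ s * b := Nat.mul_le_mul_left _ hb3
    omega
  have h7 := tight hF (P_prime (by omega)) (P_prime (by omega)) (P_ord (by omega : 7 ≤ n - s)) (P_ord (by omega : 7 ≤ s))
    (by omega) (by omega) (by omega) h6 (by omega) h3 h2
  rcases hp.dvd_mul.1 (hj.trans h7) with h8 | h8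
  · by_cases hp2 : p = 2
    · subst hp2
      have h9 : 2 ∣ 2 ^ (n - s) := dvd_pow_self 2 (by omega)
      have h10 : 1 ≤ 2 ^ (n - s) := Nat.one_le_two_pow
      omega
    · exact (hpJ hp2 s hs).2 (order_two.1 h8)
  · by_cases hp2 : p = 2
    · subst hp2
      have h9 : 2 ∣ 2 ^ s := dvd_pow_self 2 (by omega)
      have h10 : 1 ≤ 2 ^ s := Nat.one_le_two_pow
      omega
    · exact (hpJ hp2 s hs).1 (order_two.1 h8)

theorem two_le_ord {p : ℕ} (hp : p.Prime) (hp2 : p ≠ 2) : 2 ≤ orderOf (2 : ZMod p) ∧ orderOf (2 : ZMod p) < p := by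
  have := Fact.mk hp
  have h0 : (2 : ZMod p) ≠ 0 := by
    intro h
    have h1 : ((2 : ℕ) : ZMod p) = 0 := h
    rw [ZMod.natCast_eq_zero_iff] at h1
    exact hp2 ((Nat.prime_dvd_prime_iff_eq hp Nat.prime_two).1 h1)
  have h1 := orderOf_dvd_of_pow_eq_one (ZMod.pow_card_sub_one_eq_one h0)
  have h2 := hp.two_le
  have h3 := Nat.le_of_dvd (by omega) h1
  have h4 := Nat.pos_of_dvd_of_pos h1 (by omega)
  have h5 : orderOf (2 : ZMod p) ≠ 1 := by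
    intro h
    rw [orderOf_eq_one_iff] at h
    have h6 : ((2 : ℕ) : ZMod p) - ((1 : ℕ) : ZMod p) = 0 := by
      rw [sub_eq_zero]
      push_cast
      exact h
    rw [← Nat.cast_sub (by norm_num), ZMod.natCast_eq_zero_iff] at h6
    exact hp.one_lt.ne' (Nat.dvd_one.1 h6)
  omega

theorem exists_goodJ {l k m₀ : ℕ} {Ω : Finset ℕ} (Q : Params l k m₀ Ω) {p : ℕ} (hp : p.Prime) :
    ∃ J, GoodJ (2 ^ l) k J ∧ (p ≠ 2 → ∀ s ∈ J, ¬ orderOf (2 : ZMod p) ∣ s ∧ ¬ orderOf (2 : ZMod p) ∣ 2 ^ l - s) := by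
  by_cases hp2 : p = 2
  · obtain ⟨J, h1, h2⟩ := Q.J 2 le_rfl
    exact ⟨J, ⟨h1, fun s hs => ⟨(h2 s hs).1, (h2 s hs).2.1, (h2 s hs).2.2.1⟩⟩, fun h => absurd hp2 h⟩
  · obtain ⟨J, h1, h2⟩ := Q.J _ (two_le_ord hp hp2).1
    exact ⟨J, ⟨h1, fun s hs => ⟨(h2 s hs).1, (h2 s hs).2.1, (h2 s hs).2.2.1⟩⟩, fun _ s hs => (h2 s hs).2.2.2⟩

/-! ### the product of the components -/

theorem ind_pi_of_sSup {X : Type*} [Group X] [Finite X] {𝓐 : Set (Subgroup X)}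
    (hcomm : ∀ C ∈ 𝓐, ∀ D ∈ 𝓐, C ≠ D → ∀ x ∈ C, ∀ y ∈ D, x * y = y * x) {T : Finset ℕ} (hI : Ind (sSup 𝓐 : Subgroup X) T) :
    Ind (∀ C : 𝓐, (C : Subgroup X)) T := by
  classical
  have : Fintype 𝓐 := Fintype.ofFinite 𝓐
  have hc : Pairwise fun C D : 𝓐 => ∀ x y : X, x ∈ (C : Subgroup X) → y ∈ (D : Subgroup X) → Commute x y :=
    fun C D hne x y hx hy => hcomm C C.2 D D.2 (fun h => hne (Subtype.ext h)) x hx y hy
  have h1 := Subgroup.noncommPiCoprod_range (hcomm := hc)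
  rw [← sSup_eq_iSup'] at h1
  have h2 : Ind (Subgroup.noncommPiCoprod hc).range T := by
    obtain ⟨g, hg⟩ := hI
    refine ⟨⟨g, by rw [h1]; exact g.2⟩, fun r hr => ?_⟩
    rw [Subgroup.orderOf_mk, Subgroup.orderOf_coe]
    exact hg r hr
  exact h2.of_surjective (Subgroup.noncommPiCoprod hc).rangeRestrict (MonoidHom.rangeRestrict_surjective _)

theorem n_bounds {l k m₀ : ℕ} {Ω : Finset ℕ} (Q : Params l k m₀ Ω) : 32 ≤ 2 ^ l ∧ Even (2 ^ l) := by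
  have h1 := Q.le
  refine ⟨h1, (Nat.even_pow.2 ⟨by decide, ?_⟩)⟩
  rintro rfl
  norm_num at h1

section steps

variable {F : Type v} [Field F] [Fintype F] (hF : Fintype.card F = 2) {l k m₀ : ℕ} {Ω : Finset ℕ} (Q : Params l k m₀ Ω)
  {G : Type u} [Group G] [Finite G] (h : Set.range (orderOf : G → ℕ) = Set.range (orderOf : (Fin k → PL F (2 ^ l)) → ℕ))
  {R : Subgroup G} [hRn : R.Normal] {𝓐 : Set (Subgroup (G ⧸ R))} (D : TopD F l k m₀ G R 𝓐 Ω)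

include hF Q h D

theorem ind_M {T : Finset ℕ} (hT : ∀ r ∈ T, r.Prime ∧ r ≠ 2 ∧ 2 ^ l < 4 * orderOf (2 : ZMod r)) (hI : Ind G T) :
    Ind (sSup 𝓐 : Subgroup (G ⧸ R)) T := by
  have h1 : Ind (G ⧸ R) T := by
    refine hI.map_of_ker (QuotientGroup.mk' R) (fun r hr => (hT r hr).1) ?_
    intro r hr h1
    rw [QuotientGroup.ker_mk'] at h1
    have h2 := rad_small hF Q h D (hT r hr).1 h1
    have h3 := (hT r hr).2.2
    omega
  have hMn : (sSup 𝓐 : Subgroup (G ⧸ R)).Normal := Cfsg.Agent.H831.DPSolv.sSup_normal D.inv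
  have h2 : Ind (sSup 𝓐 ⊔ centralizer ((sSup 𝓐 : Subgroup (G ⧸ R)) : Set (G ⧸ R)) : Subgroup (G ⧸ R)) T := by
    refine h1.of_index (fun r hr => (hT r hr).1) fun r hr => ?_
    obtain ⟨h3, h4, h5⟩ := hT r hr
    have h6 := two_le_ord h3 h4
    refine not_dvd_index_of_out D.comp D.inv (D.out hF Q) h3 h4 ?_
    have h7 := Q.kn
    rw [D.card]
    omega
  have h3 : Ind (prodHom (sSup 𝓐 : Subgroup (G ⧸ R))).range T := by
    rw [range_prodHom]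
    exact h2
  have h4 : Ind (↥(sSup 𝓐 : Subgroup (G ⧸ R)) × ↥(centralizer ((sSup 𝓐 : Subgroup (G ⧸ R)) : Set (G ⧸ R)))) T :=
    h3.of_surjective _ (MonoidHom.rangeRestrict_surjective (prodHom (sSup 𝓐 : Subgroup (G ⧸ R))))
  obtain ⟨T₁, h5, h6, h7⟩ := h4.split fun r hr => (hT r hr).1
  have h8 : T ⊆ T₁ := by
    intro r hr
    by_contra hcon
    have h9 := h7.prime_dvd_card (Finset.mem_sdiff.2 ⟨hr, hcon⟩)
    have h10 := cen_small hF Q h D (hT r hr).1 h9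
    have h11 := (hT r hr).2.2
    omega
  exact h6.mono h8

theorem ind_M_TJ {J : Finset ℕ} (hJ : GoodJ (2 ^ l) k J) : Ind (sSup 𝓐 : Subgroup (G ⧸ R)) (TJ (2 ^ l) J) := by
  have hb := n_bounds Q
  exact ind_M hF Q h D (fun r hr => TJ_spec hb.1 hJ hr) ((ind_iff h _).2 (ind_TJ hF hb.1 hJ))

/-- all components are `PSL_n(2)` -/
theorem iso_eq : ∀ C ∈ 𝓐, Nonempty (C ≃* PL F (2 ^ l)) := by
  classical
  have hb := n_bounds Q
  have : Fintype 𝓐 := Fintype.ofFinite 𝓐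
  obtain ⟨J, hJ, -⟩ := exists_goodJ Q Nat.prime_two
  obtain ⟨g, hg⟩ := ind_pi_of_sSup D.comm (ind_M_TJ hF Q h D hJ)
  have hT : ∀ r ∈ TJ (2 ^ l) J, ∃ i, r ∣ orderOf (g i) := fun r hr =>
    exists_comp_dvd' (TJ_spec hb.1 hJ hr).1 (hg r hr)
  have hiso : ∀ C : 𝓐, ∃ m, m ≤ 2 ^ l ∧ Nonempty ((C : Subgroup (G ⧸ R)) ≃* PL F m) := by
    intro C
    obtain ⟨m, -, h1, h2⟩ := D.iso C C.2
    exact ⟨m, h1, h2⟩
  choose m hm he using hiso
  let e : ∀ C : 𝓐, (C : Subgroup (G ⧸ R)) ≃* PL F (m C) := fun C => (he C).some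
  have horder : ∀ C : 𝓐, orderOf (e C (g C)) = orderOf (g C) := fun C => MulEquiv.orderOf_eq (e C) (g C)
  have h1 := Cfsg.Agent.H446.DP.tight_comb hF hb.1 hb.2 hJ.2
    (by rw [hJ.1, ← Nat.card_eq_fintype_card, Nat.card_coe_set_eq, D.card]) m hm (fun C => e C (g C))
    (fun s hs => by
      obtain ⟨i, hi⟩ := hT _ (mem_TJ.2 ⟨s, hs, Or.inl rfl⟩)
      exact ⟨i, by rw [horder]; exact hi⟩)
    (fun s hs => by
      obtain ⟨i, hi⟩ := hT _ (mem_TJ.2 ⟨s, hs, Or.inr rfl⟩)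
      exact ⟨i, by rw [horder]; exact hi⟩)
  intro C hC
  have h2 := (h1 ⟨C, hC⟩).1
  have h3 := he ⟨C, hC⟩
  rwa [h2] at h3

/-- the centralizer is trivial -/
theorem cen_bot : centralizer ((sSup 𝓐 : Subgroup (G ⧸ R)) : Set (G ⧸ R)) = ⊥ := by
  by_contra hne
  have h1 : Nat.card (centralizer ((sSup 𝓐 : Subgroup (G ⧸ R)) : Set (G ⧸ R))) ≠ 1 := fun h1 =>
    hne (Subgroup.card_eq_one.1 h1)
  obtain ⟨r, hr, hrC⟩ := Nat.exists_prime_and_dvd h1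
  obtain ⟨J, hJ, hJr⟩ := exists_goodJ Q hr
  have hb := n_bounds Q
  have h2 := ind_of_prod (center_sSup D.nosol D.comp) (ind_M_TJ hF Q h D hJ) (ind_singleton hr hrC)
  have h3 : Ind G (insert r (TJ (2 ^ l) J)) := by
    refine Ind.of_surjective (QuotientGroup.mk' R) (QuotientGroup.mk'_surjective R) (h2.mono ?_)
    intro s hs
    rw [Finset.mem_insert] at hs
    rw [Finset.mem_union, Finset.mem_singleton]
    tauto
  exact no_ind_TJ hF hb.1 hb.2 hJ hr hJr ((ind_iff h _).1 h3)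

end steps

end Cfsg.Agent.H370.DP
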