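import Cfsg.Agent.H370.DP.Part2
import Cfsg.Agent.H371.FrobCover
import Cfsg.Agent.H477.ElemNormal
import Cfsg.Agent.H414.T29.Frob

/-!
# Part III, step 3: the solvable radical is trivial (helper370)
-/

set_option autoImplicit false

universe u v

namespace Cfsg.Agent.H370.DP

open Subgroup Cfsg Cfsg.Agent.H369.Socle
open Cfsg.Agent.H414.T29 (FrobIn frob_two)
open Cfsg.Agent.H371.Frob (quotAct quotAct_mk exists_orderOf)
open Cfsg.Agent.H188.Fac.PLTwo (pair_le dvd_card tight exists_pair order_two)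

/-! ### the top chief factor -/

theorem exists_top {G : Type*} [Group G] [Finite G] {K : Subgroup G} [K.Normal] (hs : Group.IsSolvable K) (hK : K ≠ ⊥) :
    ∃ (M : Subgroup G) (_ : M.Normal) (p : ℕ), M ≤ K ∧ p.Prime ∧ K.map (QuotientGroup.mk' M) ≠ ⊥ ∧
      IsMulCommutative (K.map (QuotientGroup.mk' M)) ∧ ∀ v ∈ K.map (QuotientGroup.mk' M), v ^ p = 1 := by
  obtain ⟨M, hM⟩ := (Set.toFinite {M : Subgroup G | M.Normal ∧ M < K}).exists_maximal
    ⟨⊥, inferInstance, bot_lt_iff_ne_bot.2 hK⟩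
  obtain ⟨⟨hMn, hMK⟩, hmax⟩ := hM
  let N : Subgroup (G ⧸ M) := K.map (QuotientGroup.mk' M)
  have hNn : N.Normal := inferInstance
  have hNs : Group.IsSolvable N := by
    have hsur : Function.Surjective ((QuotientGroup.mk' M).subgroupMap K) :=
      MonoidHom.subgroupMap_surjective _ _
    exact Group.isSolvable_of_surjective hsur
  have hcomap : N.comap (QuotientGroup.mk' M) = K := by
    rw [Subgroup.comap_map_eq, QuotientGroup.ker_mk', sup_eq_left.2 hMK.le]
  have hN1 : N ≠ ⊥ := by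
    intro h
    rw [h, MonoidHom.comap_bot, QuotientGroup.ker_mk'] at hcomap
    exact hMK.ne hcomap
  obtain ⟨W, p, hWn, hWN, hW1, hp, hWc, hWp⟩ := H477.exists_elem_normal N hN1
  have hWK : W = N := by
    have h1 : M ≤ W.comap (QuotientGroup.mk' M) := by
      intro x hx
      rw [Subgroup.mem_comap]
      have h2 : (QuotientGroup.mk' M) x = 1 := (QuotientGroup.eq_one_iff (N := M) x).2 hx
      rw [h2]
      exact W.one_mem
    have h2 : W.comap (QuotientGroup.mk' M) ≤ K := by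
      rw [← hcomap]
      exact Subgroup.comap_mono hWN
    have h3 : ¬ W.comap (QuotientGroup.mk' M) < K := by
      intro hlt
      have h4 := hmax ⟨inferInstance, hlt⟩ h1
      apply hW1
      rw [← Subgroup.map_comap_eq_self_of_surjective (QuotientGroup.mk'_surjective M) W,
        le_antisymm h4 h1, QuotientGroup.map_mk'_self]
    have h5 : W.comap (QuotientGroup.mk' M) = K := by
      by_contra hne
      exact h3 (lt_of_le_of_ne h2 hne)
    rw [← Subgroup.map_comap_eq_self_of_surjective (QuotientGroup.mk'_surjective M) W, h5]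
  subst hWK
  exact ⟨M, hMn, p, hMK.le, hp, hN1, hWc, hWp⟩

/-! ### Frobenius groups -/

theorem boost_of_frob {X : Type*} [Group X] [Finite X] (V : Subgroup X) [V.Normal] (hV : IsMulCommutative V) {p : ℕ}
    (hp : p.Prime) (hVp : ∀ v ∈ V, v ^ p = 1) {L : Type*} [Group L] (f : L →* X ⧸ V)
    (hf : Function.Injective ((quotAct V hV).comp f)) {m : ℕ} (hfrob : FrobIn L p m) : ∃ y : X, orderOf y = m * p := by
  have hf' : Function.Injective f := fun a b hab => hf (congrArg (quotAct V hV) hab)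
  obtain ⟨U, c, h1, h2, h3, h4, h5⟩ := hfrob
  obtain ⟨u, hu⟩ := Subgroup.ne_bot_iff_exists_ne_one.1 h3
  have h6 : orderOf (f c) = m := by rw [orderOf_injective f hf', h1]
  rw [← h6]
  refine exists_orderOf V hV hp hVp (U.map f) (c := f c) ?_ ?_ ?_ ?_
  · rintro _ ⟨a, ha, rfl⟩
    exact ⟨c * a * c⁻¹, h4 a ha, by simp⟩
  · rintro i hi him _ ⟨a, ha, rfl⟩ hc
    rw [h6] at him
    rw [← map_pow, ← map_mul, ← map_mul] at hc
    rw [h5 i hi him a ha (hf' hc), map_one]
  · rwa [Subgroup.card_map_of_injective hf']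
  · obtain ⟨g, hg⟩ := QuotientGroup.mk_surjective (f u)
    refine ⟨g, ⟨u, u.2, hg.symm⟩, ?_⟩
    by_contra hcon
    push Not at hcon
    apply hu
    apply Subtype.ext
    apply hf
    rw [Subgroup.coe_one, map_one]
    apply MulEquiv.ext
    intro v
    apply Subtype.ext
    rw [MonoidHom.comp_apply, ← hg, quotAct_mk, MulAut.one_apply, hcon v v.2, mul_inv_cancel_right]

theorem frob_odd {F : Type v} [Field F] [Fintype F] (hF : Fintype.card F = 2) {m i p t : ℕ} (hi : 2 ≤ i) (him : i + 1 ≤ m)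
    (hp : p.Prime) (hp2 : p ≠ 2) (hpt : p ^ t ∣ 2 ^ i - 1) : FrobIn (PL F m) p (p ^ t) := by
  obtain ⟨Q, y, hQ, hQ1, hy, hyQ, hfpf⟩ := Cfsg.Agent.H421.DPTwo.exists_frob hF hi him
  have hpos : 0 < 2 ^ i - 1 := by
    have : 2 ^ 1 ≤ 2 ^ i := Nat.pow_le_pow_right (by norm_num) (by omega)
    omega
  obtain ⟨c, hc⟩ := hpt
  have hc0 : 0 < c := by
    rcases Nat.eq_zero_or_pos c with h | h
    · rw [h, mul_zero] at hc
      omega
    · exact h
  have hord : orderOf (y ^ c) = p ^ t := by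
    rw [orderOf_pow, hy, hc, Nat.gcd_eq_right (Dvd.intro_left _ rfl), Nat.mul_div_cancel _ hc0]
  refine ⟨Q, y ^ c, hord, ?_, hQ1, ?_, ?_⟩
  · obtain ⟨a, ha⟩ := (IsPGroup.iff_card (p := 2)).1 hQ
    rw [ha]
    exact Nat.Coprime.pow_left _ ((Nat.coprime_primes Nat.prime_two hp).2 (Ne.symm hp2))
  · have h3 : ∀ j : ℕ, ∀ q ∈ Q, y ^ j * q * (y ^ j)⁻¹ ∈ Q := by
      intro j
      induction j with
      | zero => intro q hq; simpa using hq
      | succ j ih =>
        intro q hq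
        have h4 := ih _ (hyQ q hq)
        have h5 : y ^ (j + 1) * q * (y ^ (j + 1))⁻¹ = y ^ j * (y * q * y⁻¹) * (y ^ j)⁻¹ := by
          rw [pow_succ]
          group
        rwa [h5]
    exact h3 c
  · intro j hj hjt q hq hcom
    rw [← pow_mul] at hcom
    refine hfpf (c * j) (Nat.mul_pos hc0 hj) ?_ q hq hcom
    rw [hc, mul_comm]
    exact Nat.mul_lt_mul_of_pos_right hjt hc0

theorem frob_two' {F : Type v} [Field F] [Fintype F] (hF : Fintype.card F = 2) {l : ℕ} (hl : 3 ≤ l) :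
    FrobIn (PL F (2 ^ l)) 2 (2 ^ l) := by
  have hchar : CharP F 2 := by
    have := ringChar.charP F
    rwa [Cfsg.Agent.H188.Fac.PLTwo.ringChar_two hF] at this
  have h8 : 2 ^ 3 ≤ 2 ^ l := Nat.pow_le_pow_right (by norm_num) hl
  exact (frob_two (k := 1) (m := l) (by rw [hF]; rfl) (P_prime (i := 2 ^ l) (by omega))
    (by rw [pow_one]; exact_mod_cast P_ord (by omega)) (by omega)).map _ (Cfsg.Agent.H188.Fac.PLTwo.mk_bij hF _).1

theorem exists_tau {L : Type*} [Group L] [Finite L] {p : ℕ} (hp : p.Prime) (h : p ∣ Nat.card L) :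
    ∃ t, 1 ≤ t ∧ (∃ g : L, p ^ t ∣ orderOf g) ∧ ∀ g : L, ¬ p ^ (t + 1) ∣ orderOf g := by
  classical
  have hex : ∃ t, ∀ g : L, ¬ p ^ (t + 1) ∣ orderOf g := by
    refine ⟨Nat.card L, fun g hg => ?_⟩
    have h1 := Nat.le_of_dvd (Nat.card_pos) (hg.trans (orderOf_dvd_natCard g))
    have h2 : Nat.card L < p ^ Nat.card L := Nat.lt_pow_self hp.one_lt
    have h3 : p ^ Nat.card L ≤ p ^ (Nat.card L + 1) := Nat.pow_le_pow_right hp.pos (by omega)
    omega
  have hspec := Nat.find_spec hex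
  have hpos : 1 ≤ Nat.find hex := by
    by_contra hlt
    have h0 : Nat.find hex = 0 := by omega
    rw [h0] at hspec
    have := Fact.mk hp
    obtain ⟨g, hg⟩ := exists_prime_orderOf_dvd_card' p h
    exact hspec g (by rw [hg, zero_add, pow_one])
  refine ⟨Nat.find hex, hpos, ?_, hspec⟩
  have h1 := Nat.find_min hex (m := Nat.find hex - 1) (by omega)
  push Not at h1
  obtain ⟨g, hg⟩ := h1
  exact ⟨g, by rwa [Nat.sub_add_cancel hpos] at hg⟩

theorem ord_pow_dvd {p t : ℕ} (ht : 1 ≤ t) : orderOf (2 : ZMod (p ^ t)) ∣ orderOf (2 : ZMod p) * p ^ (t - 1) := by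
  obtain ⟨s, rfl⟩ := Nat.exists_eq_succ_of_ne_zero (by omega : t ≠ 0)
  have h1 : (p : ℤ) ∣ 2 ^ orderOf (2 : ZMod p) - 1 := by
    rw [← ZMod.intCast_zmod_eq_zero_iff_dvd]
    push_cast
    rw [pow_orderOf_eq_one, sub_self]
  have h2 := dvd_sub_pow_of_dvd_sub (R := ℤ) (p := p) (a := 2 ^ orderOf (2 : ZMod p)) (b := 1) h1 s
  rw [orderOf_dvd_iff_pow_eq_one]
  rw [one_pow, ← pow_mul] at h2
  have h3 : (((p ^ (s + 1) : ℕ) : ℤ)) ∣ 2 ^ (orderOf (2 : ZMod p) * p ^ s) - 1 := by
    push_cast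
    exact h2
  rw [← ZMod.intCast_zmod_eq_zero_iff_dvd] at h3
  push_cast at h3
  rw [sub_eq_zero] at h3
  exact h3

/-! ### the radical is trivial -/

section

variable {F : Type v} [Field F] [Fintype F] (hF : Fintype.card F = 2) {l k m₀ : ℕ} {Ω : Finset ℕ} (Q : Params l k m₀ Ω)
  {G : Type u} [Group G] [Finite G] (h : Set.range (orderOf : G → ℕ) = Set.range (orderOf : (Fin k → PL F (2 ^ l)) → ℕ))
  {R : Subgroup G} [hRn : R.Normal] {𝓐 : Set (Subgroup (G ⧸ R))} (D : TopD F l k m₀ G R 𝓐 Ω)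

include hF Q h D

/-- the relevant part of a Frobenius group in `PSL_n(2)` -/
theorem exists_frobIn {p : ℕ} (hp : p.Prime) (hpR : p ∣ Nat.card R) :
    ∃ t, FrobIn (PL F (2 ^ l)) p (p ^ t) ∧ ¬ ∃ g : G, p ^ (t + 1) ∣ orderOf g := by
  have hn32 := Q.le
  have hl3 : 3 ≤ l := by
    by_contra hlt
    have h1 : 2 ^ l ≤ 2 ^ 3 := Nat.pow_le_pow_right (by norm_num) (by omega)
    omega
  by_cases hp2 : p = 2
  · subst hp2
    refine ⟨l, frob_two' hF hl3, fun hg => two_pow_pow (k := k) hF ((exists_iff h _).1 hg)⟩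
  have hpL : p ∣ Nat.card (PL F (2 ^ l)) := by
    have h1 : p ∣ Nat.card G := hpR.trans (Subgroup.card_subgroup_dvd_card R)
    rw [dvd_card_iff h hp, Nat.card_pi] at h1
    obtain ⟨i, -, hi⟩ := (hp.prime.dvd_finsetProd_iff _).1 h1
    exact hi
  obtain ⟨t, ht, ⟨g, hg⟩, hmax⟩ := exists_tau hp hpL
  obtain ⟨i, hi1, hin, hdvd, hord⟩ := Cfsg.Agent.H188.Fac.PLTwo.prime_pow hF hp hp2 ht hg
  have hi2 : 2 ≤ i := by
    by_contra hlt
    have h1 : i = 1 := by omega
    rw [h1] at hdvd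
    have h2 := Nat.le_of_dvd (by norm_num) hdvd
    have h3 : p ^ 1 ≤ p ^ t := Nat.pow_le_pow_right hp.pos ht
    rw [pow_one] at h3
    have h4 := hp.two_le
    omega
  have hi3 : i ≠ 2 ^ l := by
    intro hi
    have h1 := ord_pow_dvd (p := p) ht
    rw [hord, hi] at h1
    have h2 : (2 ^ l).Coprime (p ^ (t - 1)) := Nat.Coprime.pow _ _ ((Nat.coprime_primes Nat.prime_two hp).2 (Ne.symm hp2))
    have h3 := h2.dvd_of_dvd_mul_right h1
    have h4 := two_le_ord hp hp2
    have h5 := Nat.le_of_dvd (by omega) h3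
    have h6 := rad_small hF Q h D hp hpR
    omega
  refine ⟨t, frob_odd hF hi2 (by omega) hp hp2 hdvd, ?_⟩
  intro hg
  obtain ⟨x, hx⟩ := (exists_iff h _).1 hg
  obtain ⟨j, hj⟩ := exists_comp_dvd hp (by omega) hx
  exact hmax _ hj

theorem rad_bot : R = ⊥ := by
  classical
  by_contra hR
  have hb := n_bounds Q
  obtain ⟨A, hAn, p, hAR, hp, hV1, hVc, hVp⟩ := exists_top D.solv hR
  let f : G ⧸ A →* G ⧸ R := QuotientGroup.map A R (MonoidHom.id G) (by simpa using hAR)
  have hf : Function.Surjective f := by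
    intro y
    obtain ⟨g, rfl⟩ := QuotientGroup.mk'_surjective R y
    exact ⟨QuotientGroup.mk' A g, rfl⟩
  have hker : f.ker = R.map (QuotientGroup.mk' A) := by
    ext x
    obtain ⟨g, rfl⟩ := QuotientGroup.mk'_surjective A x
    have h1 : f (QuotientGroup.mk' A g) = QuotientGroup.mk' R g := rfl
    rw [MonoidHom.mem_ker, h1]
    constructor
    · intro h2
      exact ⟨g, (QuotientGroup.eq_one_iff (N := R) g).1 h2, rfl⟩
    · rintro ⟨g', hg', h2⟩
      have h3 : QuotientGroup.mk' R g' = QuotientGroup.mk' R g := congrArg f h2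
      rw [← h3]
      exact (QuotientGroup.eq_one_iff (N := R) g').2 hg'
  rw [← hker] at hV1 hVc hVp
  -- an element of order `p` in the kernel
  obtain ⟨v, hv⟩ := Subgroup.ne_bot_iff_exists_ne_one.1 hV1
  have hvo : orderOf (v : G ⧸ A) = p := by
    have := Fact.mk hp
    exact orderOf_eq_prime (hVp v v.2) fun h1 => hv (Subtype.ext h1)
  have hpR : p ∣ Nat.card R := by
    have h1 : p ∣ Nat.card f.ker := by
      rw [← hvo, Subgroup.orderOf_coe]
      exact orderOf_dvd_natCard v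
    rw [hker] at h1
    exact h1.trans (Subgroup.card_map_dvd _ _)
  let e : (G ⧸ A) ⧸ f.ker ≃* G ⧸ R := QuotientGroup.quotientKerEquivOfSurjective f hf
  have he : ∀ x : G ⧸ A, e.symm (f x) = (x : (G ⧸ A) ⧸ f.ker) := by
    intro x
    rw [MulEquiv.symm_apply_eq]
    rfl
  let θ : G ⧸ R →* MulAut f.ker := (quotAct f.ker hVc).comp e.symm.toMonoidHom
  by_cases hall : ∀ S ∈ 𝓐, S ≤ θ.ker
  · -- all components centralise the chief factor
    have hM : (sSup 𝓐 : Subgroup (G ⧸ R)) ≤ θ.ker := sSup_le hall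
    obtain ⟨J, hJ, hJp⟩ := exists_goodJ Q hp
    obtain ⟨g, hg⟩ := ind_M_TJ hF Q h D hJ
    obtain ⟨x, hx⟩ := hf g
    have hcom : (v : G ⧸ A) * x = x * v := by
      have h1 : θ g = 1 := hM g.2
      have h2 := congrArg (fun α : MulAut f.ker => ((α v : f.ker) : G ⧸ A)) h1
      have h3 : ((θ g v : f.ker) : G ⧸ A) = x * v * x⁻¹ := by
        change ((quotAct f.ker hVc (e.symm (g : G ⧸ R)) v : f.ker) : G ⧸ A) = _
        rw [← hx, he, quotAct_mk]
      have h4 : x * (v : G ⧸ A) * x⁻¹ = v := h3.symm.trans h2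
      rw [mul_inv_eq_iff_eq_mul] at h4
      exact h4.symm
    obtain ⟨a, b, hpb, hab⟩ := Nat.exists_eq_pow_mul_and_not_dvd (orderOf_pos x).ne' p hp.ne_one
    have hxa : orderOf (x ^ p ^ a) = b := by
      have h1 : 0 < p ^ a := pow_pos hp.pos a
      rw [orderOf_pow, hab, Nat.gcd_eq_right (Dvd.intro _ rfl), Nat.mul_div_cancel_left _ h1]
    have hcom' : Commute (v : G ⧸ A) (x ^ p ^ a) := (show Commute (v : G ⧸ A) x from hcom).pow_right _
    have hvx : orderOf ((v : G ⧸ A) * x ^ p ^ a) = p * b := by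
      rw [hcom'.orderOf_mul_eq_mul_orderOf_of_coprime, hvo, hxa]
      rw [hvo, hxa]
      exact (hp.coprime_iff_not_dvd).2 hpb
    have h3 : Ind G (insert p (TJ (2 ^ l) J)) := by
      refine Ind.of_surjective (QuotientGroup.mk' A) (QuotientGroup.mk'_surjective A) ⟨(v : G ⧸ A) * x ^ p ^ a, ?_⟩
      intro r hr
      rw [hvx]
      rcases Finset.mem_insert.1 hr with rfl | hr
      · exact dvd_mul_right _ _
      · refine Dvd.dvd.mul_left ?_ _
        obtain ⟨hr1, hr2, hr3⟩ := TJ_spec hb.1 hJ hr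
        have h4 : r ∣ orderOf x := by
          refine ((hg r hr).trans ?_).trans (orderOf_map_dvd f x)
          rw [hx, Subgroup.orderOf_coe]
        rw [hab] at h4
        rcases hr1.dvd_mul.1 h4 with h5 | h5
        · exfalso
          have h6 := (Nat.prime_dvd_prime_iff_eq hr1 hp).1 (hr1.dvd_of_dvd_pow h5)
          have h7 := rad_small hF Q h D hp hpR
          rw [h6] at hr3
          omega
        · exact h5
    exact no_ind_TJ hF hb.1 hb.2 hJ hp hJp ((ind_iff h _).1 h3)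
  · -- some component acts nontrivially
    push Not at hall
    obtain ⟨S, hS, hSk⟩ := hall
    obtain ⟨ι⟩ := iso_eq hF Q h D S hS
    have hSs := isSimple D.nosol (D.comp S hS)
    let ψ : PL F (2 ^ l) →* (G ⧸ A) ⧸ f.ker := e.symm.toMonoidHom.comp (S.subtype.comp ι.symm.toMonoidHom)
    have hinj : Function.Injective ((quotAct f.ker hVc).comp ψ) := by
      have h1 : Function.Injective (θ.comp S.subtype) := by
        rw [← MonoidHom.ker_eq_bot_iff]
        refine ((θ.comp S.subtype).normal_ker.eq_bot_or_eq_top).resolve_right fun h2 => hSk fun s hs => ?_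
        have h3 : (⟨s, hs⟩ : S) ∈ (θ.comp S.subtype).ker := h2 ▸ mem_top _
        exact h3
      exact h1.comp ι.symm.injective
    obtain ⟨t, ht, hmax⟩ := exists_frobIn hF Q h D hp hpR
    obtain ⟨y, hy⟩ := boost_of_frob f.ker hVc hp hVp ψ hinj ht
    obtain ⟨g, hg⟩ := QuotientGroup.mk'_surjective A y
    apply hmax
    refine ⟨g, ?_⟩
    rw [pow_succ, ← hy, ← hg]
    exact orderOf_map_dvd (QuotientGroup.mk' A) g

end

end Cfsg.Agent.H370.DP
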