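import Cfsg.Agent.H370.DP.Comp
import Cfsg.Agent.SignalizersComponents.ComponentExists

/-!
# The solvable radical (helper370)
-/

set_option autoImplicit false

namespace Cfsg.Agent.H370.DP

open Subgroup Cfsg Cfsg.Agent.H369.Socle

/-- the solvable radical and its quotient -/
theorem exists_rad (X : Type*) [Group X] [Finite X] : ∃ (R : Subgroup X) (_ : R.Normal), Group.IsSolvable R ∧ NoSol (X ⧸ R) := by
  classical
  obtain ⟨K, ⟨hK1, hK2⟩, hmax⟩ :=
    Set.Finite.exists_maximalFor (fun K : Subgroup X => Nat.card K)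
      {K : Subgroup X | K.Normal ∧ Group.IsSolvable ↥K} (Set.toFinite _)
      ⟨⊥, inferInstance, inferInstance⟩
  refine ⟨K, hK1, hK2, fun M hMn hMs => ?_⟩
  have h1 : (M.comap (QuotientGroup.mk' K)).Normal := inferInstance
  have h2 : Group.IsSolvable (M.comap (QuotientGroup.mk' K)) := by
    let g : (M.comap (QuotientGroup.mk' K)) →* M :=
      ((QuotientGroup.mk' K).comp (M.comap (QuotientGroup.mk' K)).subtype).codRestrict M fun x => x.2
    have hk : Group.IsSolvable g.ker := by
      let i : g.ker →* K := ((M.comap (QuotientGroup.mk' K)).subtype.comp g.ker.subtype).codRestrict K (fun x => by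
        have h3 : ((g x : M) : X ⧸ K) = 1 := by rw [(MonoidHom.mem_ker).1 x.2]; rfl
        exact (QuotientGroup.eq_one_iff _).1 h3)
      have hi : Function.Injective i := fun x y hxy => Subtype.ext (Subtype.ext (congrArg (fun z : K => (z : X)) hxy))
      exact Group.isSolvable_of_isSolvable_injective hi
    exact Group.isSolvable_of_ker_le_range g.ker.subtype g (by rw [Subgroup.range_subtype])
  have h3 : K ≤ M.comap (QuotientGroup.mk' K) := by
    intro x hx
    rw [mem_comap, (QuotientGroup.eq_one_iff (N := K) x).2 hx |> fun h => (h : (QuotientGroup.mk' K) x = 1)]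
    exact one_mem M
  have h4 := hmax ⟨h1, h2⟩ (Subgroup.card_le_of_le h3)
  have h5 : K = M.comap (QuotientGroup.mk' K) := Subgroup.eq_of_le_of_card_ge h3 h4
  rw [eq_bot_iff]
  intro m hm
  obtain ⟨x, rfl⟩ := QuotientGroup.mk'_surjective K m
  have h6 : x ∈ K := by
    rw [h5]
    exact hm
  exact (QuotientGroup.eq_one_iff (N := K) x).2 h6

theorem DD.of_normal {X : Type*} [Group X] {R : Subgroup X} [R.Normal] (hs : Group.IsSolvable R) {r : ℕ} (h : r ∣ Nat.card R) :
    DD X r := by
  refine ⟨⊥, inferInstance, R.map (QuotientGroup.mk' ⊥), inferInstance, ?_, ?_⟩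
  · exact Group.isSolvable_of_surjective (MonoidHom.subgroupMap_surjective (QuotientGroup.mk' ⊥) R)
  · rwa [Subgroup.card_map_of_injective]
    rw [← MonoidHom.ker_eq_bot_iff, QuotientGroup.ker_mk']

/-- normal subgroups inherit `NoSol` -/
theorem NoSol.of_normal {X : Type*} [Group X] [Finite X] (h : NoSol X) (N : Subgroup X) [N.Normal] : NoSol N := by
  intro K hK hs
  -- the radical of `N` is characteristic
  obtain ⟨R, ⟨hR1, hR2⟩, hmax⟩ :=
    Set.Finite.exists_maximalFor (fun K : Subgroup N => Nat.card K)
      {K : Subgroup N | K.Normal ∧ Group.IsSolvable ↥K} (Set.toFinite _)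
      ⟨⊥, inferInstance, inferInstance⟩
  have hle : ∀ M : Subgroup N, M.Normal → Group.IsSolvable M → M ≤ R := by
    intro M hM1 hM2
    have h1 : (R ⊔ M).Normal := inferInstance
    have h2 : Group.IsSolvable ↥(R ⊔ M) :=
      SignalizersComponents.ComponentExists.isSolvable_sup_of_normal hR2 hM2
    have h3 := hmax ⟨h1, h2⟩ (Subgroup.card_le_of_le le_sup_left)
    have h4 : R = R ⊔ M := Subgroup.eq_of_le_of_card_ge le_sup_left h3
    rw [h4]
    exact le_sup_right
  have hchar : R.Characteristic := by
    rw [Subgroup.characteristic_iff_map_le]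
    intro φ
    apply hle
    · exact hR1.map _ φ.surjective
    · exact Group.isSolvable_of_surjective (MonoidHom.subgroupMap_surjective φ.toMonoidHom R)
  have h1 : (R.map N.subtype).Normal := inferInstance
  have h2 : Group.IsSolvable (R.map N.subtype) := Group.isSolvable_of_surjective (MonoidHom.subgroupMap_surjective N.subtype R)
  have h3 := h _ h1 h2
  have h4 : R = ⊥ := (Subgroup.map_eq_bot_iff_of_injective _ N.subtype_injective).1 h3
  rw [eq_bot_iff, ← h4]
  exact hle K hK hs

end Cfsg.Agent.H370.DP
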