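import Cfsg.Agent.H370.DP.Struct

/-!
# The recursion on the permutation action on the components (helper370)
-/

set_option autoImplicit false

universe u

namespace Cfsg.Agent.H370.DP

open Subgroup Cfsg Cfsg.Agent.H369.Socle
open Cfsg.Agent.H831.DPSolvMain (solv_quot)
open Cfsg.Agent.H60.SolvLift (DD.of_surjective)

/-- primes with large indices -/
def Big (n : ℕ) (E : Finset ℕ) : Prop :=
  (∀ r ∈ E, r.Prime ∧ n < 2 * orderOf (2 : ZMod r) ∧ orderOf (2 : ZMod r) ≤ n) ∧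
    Set.InjOn (fun r => orderOf (2 : ZMod r)) (E : Set ℕ)

theorem Big.mono {n : ℕ} {E E' : Finset ℕ} (h : Big n E) (hE : E' ⊆ E) : Big n E' :=
  ⟨fun r hr => h.1 r (hE hr), h.2.mono (by exact_mod_cast hE)⟩

theorem Big.prime {n : ℕ} {E : Finset ℕ} (h : Big n E) : ∀ r ∈ E, r.Prime := fun r hr => (h.1 r hr).1

theorem ord_lt {r : ℕ} (hr : r.Prime) (h : 0 < orderOf (2 : ZMod r)) : orderOf (2 : ZMod r) < r := by
  have := Fact.mk hr
  have h2 : (2 : ZMod r) ≠ 0 := by
    intro h0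
    rw [h0, orderOf_zero] at h
    exact lt_irrefl _ h
  have h3 := ZMod.orderOf_dvd_card_sub_one h2
  have h4 := Nat.le_of_dvd (by have := hr.one_lt; omega) h3
  have := hr.one_lt
  omega

theorem Big.lt {n : ℕ} {E : Finset ℕ} (h : Big n E) {r : ℕ} (hr : r ∈ E) : n < 2 * r := by
  have h1 := h.1 r hr
  have h2 := ord_lt h1.1 (by omega)
  omega

theorem Bnd.of_dvd {n : ℕ} {X Y : Type*} [Group X] [Group Y] (h : Bnd n X) (hd : Nat.card Y ∣ Nat.card X) : Bnd n Y :=
  fun r hr h2 hrY => h r hr h2 (hrY.trans hd)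

/-- the bound for a factor without elements of order `2 ^ l` -/
def CovD (l k : ℕ) : Prop := ∀ (S : Type u) [Group S] [Finite S], IsSimpleGroup S → (¬ ∀ a b : S, a * b = b * a) →
  Bnd (2 ^ l) S → (¬ ∃ g : S, orderOf g = 2 ^ l) → ∀ (E : Finset ℕ) (c : ℕ), Big (2 ^ l) E → 1 ≤ c → c ≤ k → Pr k c S E →
    4 * E.card ≤ 2 ^ l + 4 * (k ^ 2 + 3 * k + 8)

theorem exists_of_dvd {X : Type*} [Group X] [Finite X] {n : ℕ} (h : ∃ g : X, n ∣ orderOf g) : ∃ g : X, orderOf g = n := by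
  obtain ⟨g, hg⟩ := h
  exact ⟨g ^ (orderOf g / n), orderOf_pow_orderOf_div (orderOf_pos g).ne' hg⟩

theorem exists_sub {X : Type*} [Group X] {H : Subgroup X} {n : ℕ} (h : ∃ g : H, orderOf g = n) : ∃ g : X, orderOf g = n := by
  obtain ⟨g, hg⟩ := h
  exact ⟨g, by rw [Subgroup.orderOf_coe, hg]⟩

theorem exists_quot {X Y : Type*} [Group X] [Finite X] [Group Y] (f : X →* Y) (hf : Function.Surjective f) {n : ℕ}
    (h : ∃ g : Y, orderOf g = n) : ∃ g : X, orderOf g = n := by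
  obtain ⟨y, hy⟩ := h
  obtain ⟨x, rfl⟩ := hf y
  exact exists_of_dvd ⟨x, hy ▸ orderOf_map_dvd f x⟩

/-- the case of a component with a prime of `E` -/
theorem card_le_of_comp {X : Type u} [Group X] [Finite X] (hR : NoSol X) {l k : ℕ} (hcov : CovD.{u} l k) {κ : ℕ} (hκ : κ ≤ k)
    (hkn : 2 * k ≤ 2 ^ l) {E : Finset ℕ} (hE : Big (2 ^ l) E) (hP : Pr k κ X E) (h2 : ¬ ∃ g : X, orderOf g = 2 ^ l)
    (hB : Bnd (2 ^ l) X) (hD : ∀ r ∈ E, ¬ DD X r) {𝓐 : Set (Subgroup X)} (hA : ∀ C ∈ 𝓐, IsComponent C)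
    (hinv : ∀ C ∈ 𝓐, ∀ h : X, cj h C ∈ 𝓐) (hAκ : 𝓐.ncard ≤ κ) {S : Subgroup X} (hS : S ∈ 𝓐) {r : ℕ} (hr : r ∈ E)
    (hrS : r ∣ Nat.card S) : 4 * E.card ≤ 2 ^ l + 4 * (k ^ 2 + 3 * k + 8) + 4 * κ := by
  have h1 := pr_prod hR hA hinv hE.prime (fun r hr => by have := hE.lt hr; omega) hD hS hP
  obtain ⟨c, hcκ, A, hAE, hAc, hAI, hmax, hP1, -⟩ := h1.direct hE.prime
  have hc : 1 ≤ c := by
    have h3 := hmax {r} (Finset.singleton_subset_iff.2 hr) (ind_singleton (hE.prime r hr) hrS)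
    rwa [Finset.card_singleton] at h3
  have h4 := hcov S (isSimple hR (hA S hS)) (not_comm (hA S hS)) (hB.of_dvd (card_subgroup_dvd_card S))
    (fun h => h2 (exists_sub h)) (E \ A) c (hE.mono Finset.sdiff_subset) hc (hcκ.trans hκ) hP1
  have h5 := Finset.card_sdiff_of_subset hAE
  have h6 := Finset.card_le_card hAE
  omega

/-- **The recursion.** -/
theorem deep {l k : ℕ} (hcov : CovD.{u} l k) (hkn : 2 * k ≤ 2 ^ l) (hk : 1 ≤ k) : ∀ (lam : ℕ), lam + 1 ≤ l →
    ∀ (X : Type u) [Group X] [Finite X] (κ : ℕ) (E : Finset ℕ), 1 ≤ κ → κ ≤ k → Big (2 ^ l) E → Pr k κ X E →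
      (¬ ∃ g : X, orderOf g = 2 ^ (lam + 1)) → Bnd (2 ^ l) X → (∀ r ∈ E, ¬ DD X r) →
      4 * E.card ≤ 2 ^ l + 4 * (k ^ 2 + 3 * k + 8) + 4 * (lam + 2) * k := by
  classical
  intro lam
  induction lam with
  | zero =>
    intro _ X _ _ κ E hκ1 hκ hE hP h2 hB hD
    -- `X` is solvable
    by_cases hk' : E.card < k
    · nlinarith
    obtain ⟨T, hT, hTk⟩ := Finset.exists_subset_card_eq (not_lt.1 hk')
    obtain ⟨A, hA, hAc, hAI⟩ := hP.2 T hT hTk
    obtain ⟨r, hr⟩ : A.Nonempty := Finset.card_pos.1 (by omega)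
    have hrX := hAI.prime_dvd_card hr
    exfalso
    apply hD r (hT (hA hr))
    have hodd : Odd (Nat.card X) := by
      by_contra hne
      have : Fact (Nat.Prime 2) := ⟨Nat.prime_two⟩
      obtain ⟨g, hg⟩ := exists_prime_orderOf_dvd_card' 2 (Nat.not_odd_iff_even.1 hne).two_dvd
      exact h2 ⟨g, by rw [hg]; norm_num⟩
    have hs : Group.IsSolvable X := Cfsg.Agent.S0205.result hodd
    have hs' : Group.IsSolvable (⊤ : Subgroup X) := inferInstance
    refine DD.of_normal hs' ?_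
    rwa [Subgroup.card_top]
  | succ lam ih =>
    intro hl X _ _ κ E hκ1 hκ hE hP h2 hB hD
    obtain ⟨R, hRn, hRs, hNS⟩ := exists_rad X
    -- pass to `X / R`
    have hπ := QuotientGroup.mk'_surjective R
    have hP' : Pr k κ (X ⧸ R) E := by
      refine hP.map (QuotientGroup.mk' R) hπ hE.prime fun r hr h => ?_
      rw [QuotientGroup.ker_mk'] at h
      exact hD r hr (DD.of_normal hRs h)
    have h2' : ¬ ∃ g : X ⧸ R, orderOf g = 2 ^ (lam + 1 + 1) := fun h => h2 (exists_quot _ hπ h)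
    have hB' : Bnd (2 ^ l) (X ⧸ R) := hB.of_dvd (Subgroup.card_quotient_dvd_card R)
    have hD' : ∀ r ∈ E, ¬ DD (X ⧸ R) r := fun r hr h => hD r hr (DD.of_surjective (QuotientGroup.mk' R) hπ h)
    set Y := X ⧸ R with hY
    have hF := fam_components hNS
    obtain ⟨B, hBE, hBI, hBm⟩ := exists_matching (X := Y) (𝓐 := {C : Subgroup Y | IsComponent C}) hF.comm hE.prime
    have hBκ := hP'.1 B hBE hBI
    have hcard := Finset.card_sdiff_of_subset hBE
    have hEB : Big (2 ^ l) (E \ B) := hE.mono Finset.sdiff_subset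
    have hPB : Pr k κ Y (E \ B) := hP'.mono Finset.sdiff_subset
    have hDB : ∀ r ∈ E \ B, ¬ DD Y r := fun r hr => hD' r (Finset.mem_sdiff.1 hr).1
    by_cases hne : ∃ S : Subgroup Y, IsComponent S ∧ ∃ r ∈ E \ B, r ∣ Nat.card S
    · -- a component with a prime
      obtain ⟨S, hS, r, hr, hrS⟩ := hne
      have h4 := card_le_of_comp hNS hcov hκ hkn hEB hPB (fun h => by
          obtain ⟨g, hg⟩ := h
          exact h2' (exists_of_dvd ⟨g, hg ▸ pow_dvd_pow 2 hl⟩))
        hB' hDB (𝓐 := {C ∈ {C : Subgroup Y | IsComponent C} | ∃ r ∈ E \ B, r ∣ Nat.card C}) (fun C hC => hC.1)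
        (fun C hC h => ⟨hF.conj C hC.1 h, by
          obtain ⟨r, hr, hrC⟩ := hC.2
          refine ⟨r, hr, ?_⟩
          unfold cj
          rwa [Subgroup.card_map_of_injective (MulAut.conj h).injective]⟩)
        (hBm.trans hBκ) (S := S) ⟨hS, r, hr, hrS⟩ hr hrS
      have h5 : (lam + 1 + 2) * k = (lam + 1) * k + 2 * k := by ring
      have h6 : 4 * (lam + 1 + 2) * k = 4 * ((lam + 1) * k) + 8 * k := by ring
      omega
    · -- pass to the permutation group
      push Not at hne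
      have hinv : ∀ C ∈ {C : Subgroup Y | IsComponent C}, ∀ h : Y, cj h C ∈ {C : Subgroup Y | IsComponent C} :=
        fun C hC h => hF.conj C hC h
      have hK := kerPerm_normal' hinv
      set K := kerPerm {C : Subgroup Y | IsComponent C} with hKdef
      have hπ' := QuotientGroup.mk'_surjective K
      have hP'' : Pr k κ (Y ⧸ K) (E \ B) := by
        refine hPB.map (QuotientGroup.mk' K) hπ' hEB.prime fun r hr h => ?_
        rw [QuotientGroup.ker_mk'] at h
        exact not_dvd_kerPerm hNS (hEB.prime r hr) (hDB r hr) (fun C hC => hne C hC r hr) h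
      have h2'' : ¬ ∃ g : Y ⧸ K, orderOf g = 2 ^ (lam + 1) := by
        rintro ⟨y, hy⟩
        obtain ⟨g, rfl⟩ := hπ' y
        have hnt : Nontrivial Y := by
          by_contra hn
          rw [not_nontrivial_iff_subsingleton] at hn
          have : g = 1 := Subsingleton.elim _ _
          rw [this, map_one, orderOf_one] at hy
          have h3 : 2 ^ 1 ≤ 2 ^ (lam + 1) := Nat.pow_le_pow_right (by norm_num) (by omega)
          omega
        apply h2'
        refine Cfsg.Agent.H831.DPBoost.boost hNS (g := g) (t := lam + 1) ?_ ?_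
        · rw [← hKdef, ← QuotientGroup.ker_mk' K, MonoidHom.mem_ker, map_pow, ← hy, pow_orderOf_eq_one]
        · intro i hi hi' hmem
          rw [← hKdef, ← QuotientGroup.ker_mk' K, MonoidHom.mem_ker, map_pow] at hmem
          have h3 := Nat.le_of_dvd hi (orderOf_dvd_of_pow_eq_one hmem)
          omega
      have h3 := ih (by omega) (Y ⧸ K) κ (E \ B) hκ1 hκ hEB hP'' h2'' (hB'.of_dvd (Subgroup.card_quotient_dvd_card K))
        (fun r hr h => hDB r hr (DD.of_surjective (QuotientGroup.mk' K) hπ' h))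
      have h6 : 4 * (lam + 1 + 2) * k = 4 * (lam + 2) * k + 4 * k := by ring
      omega

end Cfsg.Agent.H370.DP
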