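import Cfsg.Agent.H370.DP.Part4

/-!
# The numerical data for `k = 3`, `n = 64, 128, 256`; cubes (helper370)
-/

set_option autoImplicit false

universe u v

namespace Cfsg.Agent.H370.DP

open Cfsg Subgroup

theorem exists_I3 {l : ℕ} (hl : 48 ≤ 2 ^ l) (e : ℕ) : ∃ I : Finset ℕ, I.card = 3 ∧
    ∀ i ∈ I, Odd i ∧ 3 * 2 ^ l < 4 * i ∧ i + 1 ≤ 2 ^ l - 2 ∧ i ≤ 2 ^ l ∧ P i ∈ RR (2 ^ l) ∧ i ≠ e ∧ i ≠ 3 * e := by
  classical
  have heven : Even (2 ^ l) := by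
    rw [Nat.even_pow]
    refine ⟨by decide, ?_⟩
    rintro rfl
    norm_num at hl
  obtain ⟨c, hc⟩ := heven
  have hcand : ((({2 ^ l - 3, 2 ^ l - 5, 2 ^ l - 7, 2 ^ l - 9, 2 ^ l - 11} : Finset ℕ).erase e).erase (3 * e)).card ≥ 3 := by
    have h1 : ({2 ^ l - 3, 2 ^ l - 5, 2 ^ l - 7, 2 ^ l - 9, 2 ^ l - 11} : Finset ℕ).card = 5 := by
      rw [Finset.card_insert_of_notMem, Finset.card_insert_of_notMem, Finset.card_insert_of_notMem,
        Finset.card_insert_of_notMem, Finset.card_singleton] <;>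
      · simp only [Finset.mem_insert, Finset.mem_singleton]
        omega
    have h2 := Finset.pred_card_le_card_erase (s := ({2 ^ l - 3, 2 ^ l - 5, 2 ^ l - 7, 2 ^ l - 9, 2 ^ l - 11} : Finset ℕ)) (a := e)
    have h3 := Finset.pred_card_le_card_erase
      (s := (({2 ^ l - 3, 2 ^ l - 5, 2 ^ l - 7, 2 ^ l - 9, 2 ^ l - 11} : Finset ℕ).erase e)) (a := 3 * e)
    omega
  obtain ⟨I, hI, hIc⟩ := Finset.exists_subset_card_eq hcand
  refine ⟨I, hIc, fun i hi => ?_⟩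
  have h1 := hI hi
  rw [Finset.mem_erase, Finset.mem_erase] at h1
  obtain ⟨h2, h3, h4⟩ := h1
  simp only [Finset.mem_insert, Finset.mem_singleton] at h4
  refine ⟨?_, by omega, by omega, by omega, mem_RR.2 ⟨i, by omega, by omega, rfl⟩, h3, h2⟩
  rw [Nat.odd_iff]
  omega

theorem exists_J3 {l : ℕ} (hl : l = 6 ∨ l = 7 ∨ l = 8) {e : ℕ} (he : 2 ≤ e) : ∃ J : Finset ℕ, J.card = 3 ∧
    ∀ s ∈ J, 2 ^ l < 4 * s ∧ 2 * s < 2 ^ l ∧ Odd s ∧ ¬ e ∣ s ∧ ¬ e ∣ 2 ^ l - s := by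
  classical
  -- the candidates
  have key : 3 ≤ ((Finset.range (2 ^ l)).filter fun s => 2 ^ l < 4 * s ∧ 2 * s < 2 ^ l ∧ s % 2 = 1 ∧ s % e ≠ 0 ∧
      (2 ^ l - s) % e ≠ 0).card := by
    rcases Nat.lt_or_ge e (2 ^ l) with h1 | h1
    · have h2 : ∀ e ∈ Finset.range (2 ^ l), 2 ≤ e → 3 ≤ ((Finset.range (2 ^ l)).filter fun s => 2 ^ l < 4 * s ∧
          2 * s < 2 ^ l ∧ s % 2 = 1 ∧ s % e ≠ 0 ∧ (2 ^ l - s) % e ≠ 0).card := by
        rcases hl with rfl | rfl | rfl <;> decide +kernel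
      exact h2 e (Finset.mem_range.2 h1) he
    · have h2 : 3 ≤ ((Finset.range (2 ^ l)).filter fun s => 2 ^ l < 4 * s ∧ 2 * s < 2 ^ l ∧ s % 2 = 1).card := by
        rcases hl with rfl | rfl | rfl <;> decide +kernel
      refine h2.trans (Finset.card_le_card ?_)
      intro s hs
      rw [Finset.mem_filter] at hs ⊢
      obtain ⟨h3, h4, h5, h6⟩ := hs
      rw [Finset.mem_range] at h3
      refine ⟨Finset.mem_range.2 h3, h4, h5, h6, ?_, ?_⟩
      · rw [Nat.mod_eq_of_lt (by omega)]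
        omega
      · rw [Nat.mod_eq_of_lt (by omega)]
        omega
  obtain ⟨J, hJ, hJc⟩ := Finset.exists_subset_card_eq key
  refine ⟨J, hJc, fun s hs => ?_⟩
  have h1 := Finset.mem_filter.1 (hJ hs)
  obtain ⟨-, h2, h3, h4, h5, h6⟩ := h1
  exact ⟨h2, h3, Nat.odd_iff.2 h4, fun h => h5 (Nat.mod_eq_zero_of_dvd h), fun h => h6 (Nat.mod_eq_zero_of_dvd h)⟩

theorem params3 {l : ℕ} (hl : l = 6 ∨ l = 7 ∨ l = 8) : Params l 3 (2 ^ l - 2) (RR (2 ^ l)) where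
  hk := by norm_num
  le := by rcases hl with rfl | rfl | rfl <;> norm_num
  kn := by rcases hl with rfl | rfl | rfl <;> norm_num
  hm := by rcases hl with rfl | rfl | rfl <;> norm_num
  I := fun e => exists_I3 (by rcases hl with rfl | rfl | rfl <;> norm_num) e
  J := fun e he => exists_J3 hl he

/-- triples -/
def cube (L : Type*) [Group L] : (Fin 3 → L) ≃* L × L × L where
  toFun f := (f 0, f 1, f 2)
  invFun x := ![x.1, x.2.1, x.2.2]
  left_inv f := by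
    funext i
    fin_cases i <;> rfl
  right_inv x := rfl
  map_mul' f g := rfl

end Cfsg.Agent.H370.DP
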