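import Cfsg.Agent.H370.DP.Num
import Cfsg.Agent.H352.Zhang
import Cfsg.Agent.H188.Fac.PLTwo

/-!
# The top of the group (helper370)
-/

set_option autoImplicit false

universe u v

namespace Cfsg.Agent.H370.DP

open Subgroup Cfsg Cfsg.Agent.H369.Socle
open Cfsg.Agent.H831.DPSolvMain (solv_quot)
open Cfsg.Agent.H60.SolvLift (DD.of_surjective exists_solvable_of_DD)
open Cfsg.Agent.H188.Fac.PLTwo (pair_le dvd_card)

/-- the bound for a factor without elements of order `2 ^ (l + 1)` -/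
def CovT (F : Type v) [Field F] (l k : ℕ) : Prop := ∀ (S : Type u) [Group S] [Finite S], IsSimpleGroup S →
  (¬ ∀ a b : S, a * b = b * a) → Bnd (2 ^ l) S → (¬ ∃ g : S, orderOf g = 2 ^ (l + 1)) →
  ∀ (E : Finset ℕ) (c : ℕ), Big (2 ^ l) E → 1 ≤ c → c ≤ k → Pr k c S E →
    (∃ m, 2 ≤ m ∧ Nonempty (S ≃* PL F m)) ∨ 8 * E.card ≤ 3 * 2 ^ l + 8 * (k ^ 2 + 3 * k + 8)

theorem ind_pl_card_le_one {F : Type v} [Field F] [Fintype F] (hF : Fintype.card F = 2) {m n : ℕ} (hm : m ≤ n)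
    {E : Finset ℕ} (hE : Big n E) {T : Finset ℕ} (hT : T ⊆ E) (h : Ind (PL F m) T) : T.card ≤ 1 := by
  obtain ⟨g, hg⟩ := h
  rw [Finset.card_le_one]
  intro r hr p hp
  by_contra hne
  have h1 := hE.1 r (hT hr)
  have h2 := hE.1 p (hT hp)
  have h3 : orderOf (2 : ZMod r) ≠ orderOf (2 : ZMod p) := fun h => hne (hE.2 (hT hr) (hT hp) h)
  have h4 : ¬ orderOf (2 : ZMod p) ∣ orderOf (2 : ZMod r) := by
    rintro ⟨c, hc⟩
    have hc0 : c ≠ 0 := by rintro rfl; omega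
    have hc1 : c ≠ 1 := by rintro rfl; omega
    have hc2 : 2 ≤ c := by omega
    nlinarith
  have h5 := pair_le hF h1.1 h2.1 rfl rfl (by omega) (by omega) (by omega) h4 (hg r hr) (hg p hp)
  omega

theorem pl_le {F : Type v} [Field F] [Fintype F] (hF : Fintype.card F = 2) {m n : ℕ} (hn : 7 ≤ n) (h : Bnd n (PL F m)) :
    m ≤ n := by
  by_contra hlt
  have h1 : P m ≠ 2 := by
    intro h2
    have h3 := P_ord (i := m) (by omega)
    rw [h2] at h3
    rw [show (2 : ZMod 2) = 0 by decide, orderOf_zero] at h3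
    omega
  have h2 := h (P m) (P_prime (by omega)) h1 ((dvd_card hF (P_prime (by omega)) h1).2 (P_ord (by omega)).le)
  rw [P_ord (by omega)] at h2
  omega

/-- if no component has a prime of `E`, pass to the permutation group -/
theorem deep_perm {l k : ℕ} (hl : 1 ≤ l) (hcov : CovD.{u} l k) (hkn : 2 * k ≤ 2 ^ l) (hk : 1 ≤ k) {X : Type u} [Group X] [Finite X]
    (hNS : NoSol X) {κ : ℕ} {E : Finset ℕ} (hκ1 : 1 ≤ κ) (hκ : κ ≤ k) (hE : Big (2 ^ l) E) (hP : Pr k κ X E)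
    (h2 : ¬ ∃ g : X, orderOf g = 2 ^ (l + 1)) (hB : Bnd (2 ^ l) X) (hD : ∀ r ∈ E, ¬ DD X r)
    (hne : ∀ C : Subgroup X, IsComponent C → ∀ r ∈ E, ¬ r ∣ Nat.card C) :
    4 * E.card ≤ 2 ^ l + 4 * (k ^ 2 + 3 * k + 8) + 4 * (l + 1) * k := by
  by_cases hk' : E.card < k
  · nlinarith
  have hnt : Nontrivial X := by
    obtain ⟨T, hT, hTk⟩ := Finset.exists_subset_card_eq (not_lt.1 hk')
    obtain ⟨A, hA, hAc, hAI⟩ := hP.2 T hT hTk
    obtain ⟨r, hr⟩ : A.Nonempty := Finset.card_pos.1 (by omega)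
    have hrX := hAI.prime_dvd_card hr
    by_contra hn
    rw [not_nontrivial_iff_subsingleton] at hn
    rw [Nat.card_unique] at hrX
    exact (hE.prime r (hT (hA hr))).one_lt.ne' (Nat.dvd_one.1 hrX)
  have hF := fam_components hNS
  have hinv : ∀ C ∈ {C : Subgroup X | IsComponent C}, ∀ h : X, cj h C ∈ {C : Subgroup X | IsComponent C} :=
    fun C hC h => hF.conj C hC h
  have hK := kerPerm_normal' hinv
  set K := kerPerm {C : Subgroup X | IsComponent C} with hKdef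
  have hπ' := QuotientGroup.mk'_surjective K
  have hP'' : Pr k κ (X ⧸ K) E := by
    refine hP.map (QuotientGroup.mk' K) hπ' hE.prime fun r hr h => ?_
    rw [QuotientGroup.ker_mk'] at h
    exact not_dvd_kerPerm hNS (hE.prime r hr) (hD r hr) (fun C hC => hne C hC r hr) h
  have h2'' : ¬ ∃ g : X ⧸ K, orderOf g = 2 ^ ((l - 1) + 1) := by
    rw [Nat.sub_add_cancel hl]
    rintro ⟨y, hy⟩
    obtain ⟨g, rfl⟩ := hπ' y
    apply h2
    refine Cfsg.Agent.H831.DPBoost.boost hNS (g := g) (t := l) ?_ ?_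
    · rw [← hKdef, ← QuotientGroup.ker_mk' K, MonoidHom.mem_ker, map_pow, ← hy, pow_orderOf_eq_one]
    · intro i hi hi' hmem
      rw [← hKdef, ← QuotientGroup.ker_mk' K, MonoidHom.mem_ker, map_pow] at hmem
      have h3 := Nat.le_of_dvd hi (orderOf_dvd_of_pow_eq_one hmem)
      omega
  have h3 := deep hcov hkn hk (l - 1) (by omega) (X ⧸ K) κ E hκ1 hκ hE hP'' h2'' (hB.of_dvd (Subgroup.card_quotient_dvd_card K))
    (fun r hr h => hD r hr (DD.of_surjective (QuotientGroup.mk' K) hπ' h))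
  have h4 : 4 * (l - 1 + 2) * k = 4 * (l + 1) * k := by
    congr 2
    omega
  omega

/-- the primes of solvable sections are few -/
theorem card_DD_le {X : Type u} [Group X] [Finite X] {k κ : ℕ} {E : Finset ℕ} (hE : ∀ r ∈ E, r.Prime)
    (hP : ∀ T ⊆ E, Ind X T → T.card ≤ κ) (hκ : κ ≤ k) :
    ∃ E' ⊆ E, (∀ r ∈ E', ¬ DD X r) ∧ 2 * (E \ E').card ≤ k * (k + 3) := by
  classical
  obtain ⟨H, hHs, hH⟩ := exists_solvable_of_DD X
  refine ⟨E.filter fun r => ¬ DD X r, Finset.filter_subset _ _, fun r hr => (Finset.mem_filter.1 hr).2, ?_⟩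
  have h1 := Cfsg.Agent.H352.Zhang.zhang hHs hE (k := κ) (fun T hT hI => hP T hT (hI.of_injective H.subtype H.subtype_injective))
  have h2 : E \ E.filter (fun r => ¬ DD X r) ⊆ E.filter (· ∣ Nat.card H) := by
    intro r hr
    rw [Finset.mem_sdiff, Finset.mem_filter, not_and, not_not] at hr
    exact Finset.mem_filter.2 ⟨hr.1, hH r (hE r hr.1) (hr.2 hr.1)⟩
  have h3 := Finset.card_le_card h2
  have h4 : κ * (κ + 3) ≤ k * (k + 3) := Nat.mul_le_mul hκ (by omega)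
  omega

/-- the structure of the top of `G` -/
structure TopData (F : Type v) [Field F] (l k : ℕ) (G : Type u) [Group G] (R : Subgroup G) [R.Normal]
    (𝓐 : Set (Subgroup (G ⧸ R))) (Ω : Finset ℕ) : Prop where
  solv : Group.IsSolvable R
  nosol : NoSol (G ⧸ R)
  comp : ∀ C ∈ 𝓐, IsComponent C
  inv : ∀ C ∈ 𝓐, ∀ h : G ⧸ R, cj h C ∈ 𝓐
  card : 𝓐.ncard = k
  iso : ∀ S ∈ 𝓐, ∃ m, 2 * 2 ^ l ≤ 2 * m + 4 * k + k * (k + 3) ∧ m ≤ 2 ^ l ∧ Nonempty (S ≃* PL F m)
  sub : Ω ⊆ RR (2 ^ l)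
  big : 2 * (RR (2 ^ l) \ Ω).card ≤ k * (k + 3) + 4 * k
  rad : ∀ r ∈ Ω, ¬ r ∣ Nat.card R
  cen : ∀ r ∈ Ω, ¬ r ∣ Nat.card (centralizer ((sSup 𝓐 : Subgroup (G ⧸ R)) : Set (G ⧸ R)))

theorem ne_two_of_big {n : ℕ} (hn : 1 ≤ n) {E : Finset ℕ} (hE : Big n E) {r : ℕ} (hr : r ∈ E) : r ≠ 2 := by
  rintro rfl
  have h1 := (hE.1 2 hr).2.1
  rw [show (2 : ZMod 2) = 0 by decide, orderOf_zero] at h1
  omega

/-- **The structure of the top.** -/
theorem top {F : Type v} [Field F] [Fintype F] (hF : Fintype.card F = 2) {l k : ℕ} (hk : 2 ≤ k) (hn : 56 * k ^ 2 ≤ 2 ^ l)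
    (hcov : CovD.{u} l k) (hcovT : CovT.{u} F l k) {G : Type u} [Group G] [Finite G] (hB : Bnd (2 ^ l) G)
    (h2 : ¬ ∃ g : G, orderOf g = 2 ^ (l + 1)) (hP : Pr k k G (RR (2 ^ l))) :
    ∃ (R : Subgroup G) (_ : R.Normal) (𝓐 : Set (Subgroup (G ⧸ R))) (Ω : Finset ℕ), TopData F l k G R 𝓐 Ω := by
  classical
  have hl := eight_le hk hn
  have hnl := mul_le hk hn
  have hn14 : 14 ≤ 2 ^ l := by nlinarith
  have hkn : 2 * k ≤ 2 ^ l := by nlinarith
  have hk2 : 2 * k ≤ k ^ 2 := by nlinarith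
  have hk4 : 4 ≤ k ^ 2 := by nlinarith
  have hkk : k * (k + 3) = k ^ 2 + 3 * k := by ring
  have hlk : 4 * (l + 1) * k = 4 * (l * k) + 4 * k := by ring
  have hRR := big_RR hn14
  have hRc := card_RR hn14
  have hhalf : 2 ^ l = 2 * 2 ^ (l - 1) := by rw [← pow_succ', Nat.sub_add_cancel (by omega)]
  have h2l : 2 ^ l - 2 ^ l / 2 = 2 ^ (l - 1) := by omega
  rw [h2l] at hRc
  -- the primes of solvable sections
  obtain ⟨E₀, hE₀, hD₀, hc₀⟩ := card_DD_le hRR.prime hP.1 le_rfl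
  obtain ⟨R, hRn, hRs, hNS⟩ := exists_rad G
  have hπ := QuotientGroup.mk'_surjective R
  have hBig₀ : Big (2 ^ l) E₀ := hRR.mono hE₀
  have hRr : ∀ r ∈ E₀, ¬ r ∣ Nat.card R := fun r hr h => hD₀ r hr (DD.of_normal hRs h)
  have hP' : Pr k k (G ⧸ R) E₀ := by
    refine (hP.mono hE₀).map (QuotientGroup.mk' R) hπ hBig₀.prime fun r hr h => ?_
    rw [QuotientGroup.ker_mk'] at h
    exact hRr r hr h
  have h2' : ¬ ∃ g : G ⧸ R, orderOf g = 2 ^ (l + 1) := fun h => h2 (exists_quot _ hπ h)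
  have hB' : Bnd (2 ^ l) (G ⧸ R) := hB.of_dvd (Subgroup.card_quotient_dvd_card R)
  have hD' : ∀ r ∈ E₀, ¬ DD (G ⧸ R) r := fun r hr h => hD₀ r hr (DD.of_surjective (QuotientGroup.mk' R) hπ h)
  set Y := G ⧸ R with hY
  have hFam := fam_components hNS
  obtain ⟨B, hBE, hBI, hBm⟩ := exists_matching (X := Y) (𝓐 := {C : Subgroup Y | IsComponent C}) hFam.comm hBig₀.prime
  have hBk := hP'.1 B hBE hBI
  have hcard := Finset.card_sdiff_of_subset hBE
  obtain ⟨E₁, hE₁⟩ : ∃ E₁, E₁ = E₀ \ B := ⟨_, rfl⟩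
  rw [← hE₁] at hcard hBm
  have hE₁0 : E₁ ⊆ E₀ := hE₁ ▸ Finset.sdiff_subset
  have hBig₁ : Big (2 ^ l) E₁ := hBig₀.mono hE₁0
  have hP₁ : Pr k k Y E₁ := hP'.mono hE₁0
  have hD₁ : ∀ r ∈ E₁, ¬ DD Y r := fun r hr => hD' r (hE₁0 hr)
  have hE₀c := Finset.card_sdiff_of_subset hE₀
  have hE₀c' := Finset.card_le_card hE₀
  have hBc' := Finset.card_le_card hBE
  obtain ⟨𝓐, h𝓐⟩ : ∃ 𝓐 : Set (Subgroup Y), 𝓐 = {C ∈ {C : Subgroup Y | IsComponent C} | ∃ r ∈ E₁, r ∣ Nat.card C} := ⟨_, rfl⟩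
  rw [← h𝓐] at hBm
  have hA : ∀ C ∈ 𝓐, IsComponent C := fun C hC => by
    rw [h𝓐] at hC
    exact hC.1
  have hinv : ∀ C ∈ 𝓐, ∀ h : Y, cj h C ∈ 𝓐 := by
    intro C hC h
    rw [h𝓐] at hC ⊢
    refine ⟨hFam.conj C hC.1 h, ?_⟩
    obtain ⟨r, hr, hrC⟩ := hC.2
    refine ⟨r, hr, ?_⟩
    unfold cj
    rwa [Subgroup.card_map_of_injective (MulAut.conj h).injective]
  have hAk : 𝓐.ncard ≤ k := hBm.trans hBk
  -- the members of `𝓐`
  have hmem : ∀ S ∈ 𝓐, ∃ m, 2 * 2 ^ l ≤ 2 * m + 4 * k + k * (k + 3) ∧ m ≤ 2 ^ l ∧ Nonempty (S ≃* PL F m) := by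
    intro S hS
    obtain ⟨r₀, hr₀, hrS⟩ : ∃ r ∈ E₁, r ∣ Nat.card S := by
      rw [h𝓐] at hS
      exact hS.2
    have h1 := pr_prod hNS hA hinv hBig₁.prime (fun r hr => by have := hBig₁.lt hr; omega) hD₁ hS hP₁
    obtain ⟨c, hck, A, hAE, hAc, hAI, hmax, hPS, -⟩ := h1.direct hBig₁.prime
    have hc : 1 ≤ c := by
      have h3 := hmax {r₀} (Finset.singleton_subset_iff.2 hr₀) (ind_singleton (hBig₁.prime r₀ hr₀) hrS)
      rwa [Finset.card_singleton] at h3
    have hAc' := Finset.card_le_card hAE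
    have h5 := Finset.card_sdiff_of_subset hAE
    have hBS : Bnd (2 ^ l) S := hB'.of_dvd (card_subgroup_dvd_card S)
    rcases hcovT S (isSimple hNS (hA S hS)) (not_comm (hA S hS)) hBS
      (fun h => h2' (exists_sub h)) (E₁ \ A) c (hBig₁.mono Finset.sdiff_subset) hc hck hPS with ⟨m, hm2, ⟨e⟩⟩ | h4
    · have hmn : m ≤ 2 ^ l := pl_le hF (by omega) (hBS.of_dvd (by rw [Nat.card_congr e.toEquiv]))
      refine ⟨m, ?_, hmn, ⟨e⟩⟩
      -- the number of primes of large index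
      have hc1 : A.card ≤ 1 := ind_pl_card_le_one hF hmn hBig₁ hAE (hAI.congr e)
      by_contra hlt
      -- the primes of index `> m` do not divide `|S|`
      let Z : Finset ℕ := (E₁ \ A).filter fun r => m < orderOf (2 : ZMod r)
      have hZ : Z.card < k := by
        by_contra hZk
        obtain ⟨T, hT, hTk⟩ := Finset.exists_subset_card_eq (not_lt.1 hZk)
        obtain ⟨A', hA', hAc', hAI'⟩ := hPS.2 T (hT.trans (Finset.filter_subset _ _)) hTk
        obtain ⟨r, hr⟩ : A'.Nonempty := Finset.card_pos.1 (by omega)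
        have h6 := Finset.mem_filter.1 (hT (hA' hr))
        have h7 : r ∈ E₁ := (Finset.mem_sdiff.1 h6.1).1
        have h8 := hAI'.prime_dvd_card hr
        rw [Nat.card_congr e.toEquiv, dvd_card hF (hBig₁.prime r h7) (ne_two_of_big (by omega) hBig₁ h7)] at h8
        omega
      -- all primes of index `> m` but few
      have h9 : (Finset.Ioc (max m (2 ^ l / 2)) (2 ^ l)).image P ⊆ Z ∪ (RR (2 ^ l) \ E₀) ∪ B ∪ A := by
        intro r hr
        rw [Finset.mem_image] at hr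
        obtain ⟨i, hi, rfl⟩ := hr
        rw [Finset.mem_Ioc] at hi
        have hi1 : m < i := lt_of_le_of_lt (le_max_left _ _) hi.1
        have hi2 : 2 ^ l / 2 < i := lt_of_le_of_lt (le_max_right _ _) hi.1
        have h10 : P i ∈ RR (2 ^ l) := mem_RR.2 ⟨i, hi2, hi.2, rfl⟩
        simp only [Finset.mem_union, Finset.mem_sdiff]
        by_cases h11 : P i ∈ E₀
        · by_cases h12 : P i ∈ B
          · exact Or.inl (Or.inr h12)
          · by_cases h13 : P i ∈ A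
            · exact Or.inr h13
            · refine Or.inl (Or.inl (Or.inl (Finset.mem_filter.2 ⟨Finset.mem_sdiff.2 ⟨?_, h13⟩, ?_⟩)))
              · rw [hE₁]
                exact Finset.mem_sdiff.2 ⟨h11, h12⟩
              · rw [P_ord (by omega)]
                exact hi1
        · exact Or.inl (Or.inl (Or.inr ⟨h10, h11⟩))
      have h10 := Finset.card_le_card h9
      rw [Finset.card_image_of_injOn (by
        intro i hi j hj h
        rw [Finset.mem_coe, Finset.mem_Ioc] at hi hj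
        have := le_max_right m (2 ^ l / 2)
        exact P_inj (by omega) (by omega) h), Nat.card_Ioc] at h10
      have h11 := Finset.card_union_le (Z ∪ (RR (2 ^ l) \ E₀) ∪ B) A
      have h12 := Finset.card_union_le (Z ∪ (RR (2 ^ l) \ E₀)) B
      have h13 := Finset.card_union_le Z (RR (2 ^ l) \ E₀)
      have h14 : max m (2 ^ l / 2) = m ∨ max m (2 ^ l / 2) = 2 ^ l / 2 := by
        rcases le_total m (2 ^ l / 2) with h | h
        · exact Or.inr (max_eq_right h)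
        · exact Or.inl (max_eq_left h)
      rcases h14 with h14 | h14
      · rw [h14] at h10
        omega
      · rw [h14] at h10
        omega
    · exfalso
      omega
  have hmem1 : ∀ C ∈ 𝓐, ∀ T ⊆ E₁, Ind C T → T.card ≤ 1 := by
    intro C hC T hT hI
    obtain ⟨m, -, hm, ⟨e⟩⟩ := hmem C hC
    exact ind_pl_card_le_one hF hm hBig₁ hT (hI.congr e)
  -- `M × C`
  have h1 := pr_sup hNS hA hinv hBig₁.prime (fun r hr => by have := hBig₁.lt hr; omega) hD₁ hP₁
  obtain ⟨c, hck, A, hAE, hAc, hAI, hmax, hPM, hPC⟩ := h1.direct hBig₁.prime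
  have hcA : c ≤ 𝓐.ncard := by
    rw [← hAc]
    exact ind_sSup_card_le (comm_of hA) hBig₁.prime hmem1 hAE hAI
  have hAc' := Finset.card_le_card hAE
  have h5 := Finset.card_sdiff_of_subset hAE
  have hMn : (sSup 𝓐 : Subgroup Y).Normal := by
    refine ⟨fun x hx y => ?_⟩
    have h3 : (sSup 𝓐 : Subgroup Y) ≤ (sSup 𝓐 : Subgroup Y).comap (MulAut.conj y).toMonoidHom := by
      refine sSup_le fun C hC c hc => ?_
      rw [mem_comap]
      exact (le_sSup (hinv C hC y) : cj y C ≤ sSup 𝓐) (conj_mem_cj hc)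
    exact h3 hx
  have hCn : (centralizer ((sSup 𝓐 : Subgroup Y) : Set Y)).Normal := inferInstance
  have hck' : c = k := by
    by_contra hne
    set C := centralizer ((sSup 𝓐 : Subgroup Y) : Set Y) with hCdef
    have hNSC : NoSol C := NoSol.of_normal hNS C
    obtain ⟨E₂, hE₂, hD₂, hc₂⟩ := card_DD_le (X := C) (k := k) (fun r hr => hBig₁.prime r (Finset.mem_sdiff.1 hr).1) hPC.1 (by omega)
    have hE₂c := Finset.card_sdiff_of_subset hE₂
    have hE₂c' := Finset.card_le_card hE₂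
    have h6 := deep_perm (by omega) hcov hkn (by omega) hNSC (κ := k - c) (by omega) (by omega)
      (hBig₁.mono (hE₂.trans Finset.sdiff_subset)) (hPC.mono hE₂) (fun h => h2' (exists_sub h))
      (hB'.of_dvd (card_subgroup_dvd_card C)) hD₂ (by
        intro D hD r hr hrD
        -- `D` is a component of `Y`
        have hD' := (Cfsg.Agent.SignalizersComponents.Components.isComponent_map_subtype (H := C)
          (Subgroup.Normal.isSubnormal hCn) hD)
        have hr₁ : r ∈ E₁ := (Finset.mem_sdiff.1 (hE₂ hr)).1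
        have h7 : D.map C.subtype ∈ 𝓐 := by
          rw [h𝓐]
          refine ⟨hD', r, hr₁, ?_⟩
          rwa [Subgroup.card_map_of_injective C.subtype_injective]
        apply not_comm hD'
        intro a b
        apply Subtype.ext
        have h8 : (a : Y) ∈ C := map_subtype_le D a.2
        exact (mem_centralizer_iff.1 h8 b ((le_sSup h7 : D.map C.subtype ≤ sSup 𝓐) b.2)).symm)
    omega
  have hAk' : 𝓐.ncard = k := by omega
  refine ⟨R, hRn, 𝓐, E₁ \ A, ⟨hRs, hNS, hA, hinv, hAk', hmem, (Finset.sdiff_subset.trans hE₁0).trans hE₀, ?_, ?_, ?_⟩⟩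
  · have h3 : RR (2 ^ l) \ (E₁ \ A) ⊆ (RR (2 ^ l) \ E₀) ∪ B ∪ A := by
      intro r hr
      rw [Finset.mem_sdiff, Finset.mem_sdiff, not_and, not_not] at hr
      simp only [Finset.mem_union, Finset.mem_sdiff]
      by_cases h11 : r ∈ E₀
      · by_cases h12 : r ∈ B
        · exact Or.inl (Or.inr h12)
        · exact Or.inr (hr.2 (hE₁ ▸ Finset.mem_sdiff.2 ⟨h11, h12⟩))
      · exact Or.inl (Or.inl ⟨hr.1, h11⟩)
    have h4 := Finset.card_le_card h3
    have h6 := Finset.card_union_le ((RR (2 ^ l) \ E₀) ∪ B) A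
    have h7 := Finset.card_union_le (RR (2 ^ l) \ E₀) B
    omega
  · intro r hr
    exact hRr r (hE₁0 (Finset.mem_sdiff.1 hr).1)
  · intro r hr hrC
    have h3 := hPC.1 {r} (Finset.singleton_subset_iff.2 hr) (ind_singleton (hBig₁.prime r (Finset.mem_sdiff.1 hr).1) hrC)
    rw [Finset.card_singleton] at h3
    omega

end Cfsg.Agent.H370.DP
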